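import Groth.Agent.E4O.DvrDom
import Mathlib.RingTheory.IntegralClosure.IntegrallyClosed
import Mathlib.Algebra.Polynomial.Reverse

/-!
A Noetherian integrally closed local domain is the intersection of the discrete valuation rings
dominating it.
-/

set_option autoImplicit false
universe u
open IsLocalRing Polynomial

namespace Groth.Agent.An92

theorem exists_dvr_notMem {O : Type u} [CommRing O] [IsDomain O] [IsNoetherianRing O] [IsLocalRing O]
    [IsIntegrallyClosed O] (hO : ¬ IsField O) (K : Type u) [Field K] [Algebra O K] [IsFractionRing O K]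
    (b : K) (hb : b ∉ (algebraMap O K).range) :
    ∃ V : ValuationSubring K, IsDiscreteValuationRing V ∧ (∀ a : O, algebraMap O K a ∈ V) ∧
      (∀ a ∈ maximalIdeal O, V.valuation (algebraMap O K a) < 1) ∧ b ∉ V := by
  classical
  have hb0 : b ≠ 0 := fun h => hb ⟨0, by rw [map_zero, h]⟩
  let C := Algebra.adjoin O {b⁻¹}
  have hCr : C = (aeval b⁻¹ : O[X] →ₐ[O] K).range := Algebra.adjoin_singleton_eq_range_aeval O b⁻¹
  have hmemC : ∀ p : O[X], aeval b⁻¹ p ∈ C := fun p => hCr.ge ⟨p, rfl⟩
  let π : O[X] →+* C := ((aeval b⁻¹).codRestrict C hmemC).toRingHom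
  have hπ : Function.Surjective π := by
    rintro ⟨z, hz⟩
    obtain ⟨p, rfl⟩ := hCr.le hz
    exact ⟨p, rfl⟩
  let N : Ideal O[X] := (maximalIdeal O).comap constantCoeff
  have hNmax : N.IsMaximal := Ideal.comap_isMaximal_of_surjective constantCoeff constantCoeff_surjective
  have hker : RingHom.ker π ≤ N := by
    intro p hp
    by_contra hpN
    have hu : IsUnit (p.coeff 0) := notMem_maximalIdeal.1 hpN
    have hp0 : aeval b⁻¹ p = 0 := congrArg Subtype.val (RingHom.mem_ker.1 hp)
    let : Invertible b⁻¹ := invertibleOfNonzero (inv_ne_zero hb0)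
    have h2 : aeval b p.reverse = 0 := by
      have := (eval₂_reverse_eq_zero_iff (algebraMap O K) b⁻¹ p).2 hp0
      rwa [invOf_eq_inv, inv_inv] at this
    have hlead : p.reverse.leadingCoeff = p.coeff 0 := by
      rw [reverse_leadingCoeff]
      exact trailingCoeff_eq_coeff_zero hu.ne_zero
    have hint : IsIntegral O b := by
      refine ⟨Polynomial.C (↑hu.unit⁻¹ : O) * p.reverse, ?_, ?_⟩
      · rw [Monic, leadingCoeff_mul, leadingCoeff_C, hlead, IsUnit.val_inv_mul]
      · rw [← aeval_def, map_mul, h2, mul_zero]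
    obtain ⟨y, hy⟩ := IsIntegrallyClosed.algebraMap_eq_of_integral hint
    exact hb ⟨y, hy⟩
  let M : Ideal C := N.map π
  have hMmax : M.IsMaximal := by
    refine (Ideal.map_eq_top_or_isMaximal_of_surjective π hπ hNmax).resolve_left fun h => ?_
    have := congrArg (Ideal.comap π) h
    rw [Ideal.comap_map_of_surjective' π hπ, sup_eq_left.2 hker, Ideal.comap_top] at this
    exact hNmax.ne_top this
  have hmem : ∀ p : O[X], π p ∈ M ↔ p ∈ N := fun p => by
    rw [← Ideal.mem_comap, Ideal.comap_map_of_surjective' π hπ, sup_eq_left.2 hker]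
  have : Algebra.FiniteType O C := ⟨(Subalgebra.fg_top _).2 (by
    have := Subalgebra.fg_adjoin_finset (R := O) ({b⁻¹} : Finset K)
    rwa [Finset.coe_singleton] at this)⟩
  have : IsNoetherianRing C := Algebra.FiniteType.isNoetherianRing O C
  have : IsFractionRing C K := IsFractionRing.of_field C K fun z => by
    obtain ⟨x, y, hy, rfl⟩ := IsFractionRing.div_surjective (A := O) z
    exact ⟨algebraMap O C x, algebraMap O C y, rfl⟩
  let T := Localization.AtPrime M
  let : Algebra T K := (IsLocalization.lift (M := M.primeCompl) (g := algebraMap C K) fun y =>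
    IsUnit.mk0 _ fun h => y.2 (by
      have : (y : C) = 0 := Subtype.ext h
      rw [this]; exact zero_mem _)).toAlgebra
  have : IsScalarTower C T K := IsScalarTower.of_algebraMap_eq fun z => (IsLocalization.lift_eq _ z).symm
  have : IsFractionRing T K := IsFractionRing.isFractionRing_of_isDomain_of_isLocalization M.primeCompl T K
  have : IsNoetherianRing T := IsLocalization.isNoetherianRing M.primeCompl T inferInstance
  have hT : ¬ IsField T := by
    obtain ⟨a, ha, ha0⟩ := Submodule.exists_mem_ne_zero_of_ne_bot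
      (show maximalIdeal O ≠ ⊥ from fun h => hO (isField_iff_maximalIdeal_eq.2 h))
    intro h
    have hm : algebraMap C T (π (Polynomial.C a)) ∈ maximalIdeal T := by
      rw [← Localization.AtPrime.map_eq_maximalIdeal]
      exact Ideal.mem_map_of_mem _ ((hmem _).2 (by simpa [N] using ha))
    rw [isField_iff_maximalIdeal_eq.1 h, Ideal.mem_bot] at hm
    have := congrArg (algebraMap T K) hm
    rw [← IsScalarTower.algebraMap_apply, map_zero] at this
    have h3 : aeval b⁻¹ (Polynomial.C a) = 0 := this
    rw [aeval_C, map_eq_zero_iff _ (IsFractionRing.injective O K)] at h3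
    exact ha0 h3
  obtain ⟨V, hV, hVT, hVm⟩ := E4O.exists_dvr_dominating (R := T) hT K K ⟨∅, Subsingleton.elim _ _⟩
  have hval : ∀ p : O[X], algebraMap T K (algebraMap C T (π p)) = aeval b⁻¹ p := fun p => by
    rw [← IsScalarTower.algebraMap_apply]; rfl
  have hlt : ∀ p ∈ N, V.valuation (aeval b⁻¹ p) < 1 := fun p hp => by
    rw [← hval]
    refine hVm _ ?_
    rw [← Localization.AtPrime.map_eq_maximalIdeal]
    exact Ideal.mem_map_of_mem _ ((hmem p).2 hp)
  refine ⟨V, hV, fun a => ?_, fun a ha => ?_, fun hbV => ?_⟩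
  · have := hVT (algebraMap C T (π (Polynomial.C a)))
    rwa [hval, aeval_C] at this
  · have := hlt (Polynomial.C a) (by simpa [N] using ha)
    rwa [aeval_C] at this
  · have h1 := hlt X (by simp [N])
    rw [aeval_X, map_inv₀] at h1
    have h2 := (V.valuation_le_one_iff b).2 hbV
    have h3 : (0 : _) < V.valuation b := zero_lt_iff.2 ((_root_.map_ne_zero _).2 hb0)
    exact absurd h2 (not_le.2 ((inv_lt_one₀ h3).1 h1))

end Groth.Agent.An92
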