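import Groth.Agent.An92.Rat.SectionExt

/-!
A generic lift specialising to a quasi-finite point over a normal point extends to the local ring.
-/

set_option autoImplicit false
universe u

open CategoryTheory AlgebraicGeometry TopologicalSpace IsLocalRing Topology

namespace Groth.Agent.An92.Rat

variable {X Y : Scheme.{u}}

set_option maxHeartbeats 1000000 in
theorem exists_stalk_hom_of_quasiFiniteAt (q : Y ⟶ X) [LocallyOfFiniteType q] {x : X}
    [IsDomain (X.presheaf.stalk x)] [IsIntegrallyClosed (X.presheaf.stalk x)]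
    (gY : Spec (CommRingCat.of (FractionRing (X.presheaf.stalk x))) ⟶ Y) (hgY : gY ≫ q = genHom x)
    (y₀ : Y) (hy : q y₀ = x) (hspec : gY ⟨⊥, Ideal.isPrime_bot⟩ ⤳ y₀) (hqf : q.QuasiFiniteAt y₀) :
    ∃ s : Spec (X.presheaf.stalk x) ⟶ Y, s ≫ q = X.fromSpecStalk x ∧
      Spec.map (CommRingCat.ofHom (algebraMap (X.presheaf.stalk x : Type u)
        (FractionRing (X.presheaf.stalk x)))) ≫ s = gY := by
  let O : Type u := X.presheaf.stalk x
  let K := FractionRing O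
  obtain ⟨W, hW, hxW, -⟩ := exists_isAffineOpen_mem_and_subset (U := (⊤ : X.Opens)) (Opens.mem_top x)
  obtain ⟨V, hV, hyV, hVW⟩ := exists_isAffineOpen_mem_and_subset (U := q ⁻¹ᵁ W) (x := y₀)
    (show q y₀ ∈ W by rw [hy]; exact hxW)
  have hgV : Set.range gY ⊆ (V : Set Y) := by
    rintro _ ⟨P, rfl⟩
    have : P = (⟨⊥, Ideal.isPrime_bot⟩ : PrimeSpectrum K) :=
      PrimeSpectrum.ext ((Ideal.eq_bot_or_top P.asIdeal).resolve_right P.2.ne_top)
    rw [this]
    exact hspec.mem_open V.2 hyV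
  obtain ⟨ψ, hψ⟩ := exists_specMap hV gY hgV
  have hker : RingHom.ker ψ.hom ≤ (hV.primeIdealOf ⟨y₀, hyV⟩).asIdeal := by
    have h1 : hV.fromSpec (PrimeSpectrum.comap ψ.hom ⟨⊥, Ideal.isPrime_bot⟩) ⤳ y₀ := by
      refine Eq.mp ?_ hspec
      rw [hψ]; rfl
    have h1 : hV.fromSpec (PrimeSpectrum.comap ψ.hom ⟨⊥, Ideal.isPrime_bot⟩) ⤳
        hV.fromSpec (hV.primeIdealOf ⟨y₀, hyV⟩) := by
      rw [hV.fromSpec_primeIdealOf ⟨y₀, hyV⟩]; exact h1
    have h2 := (PrimeSpectrum.le_iff_specializes _ _).2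
      (hV.fromSpec.isOpenEmbedding.isInducing.specializes_iff.1 h1)
    exact h2
  have hA : q.appLE W V hVW ≫ ψ = X.presheaf.germ W x hxW ≫ CommRingCat.ofHom (algebraMap O K) := by
    apply specMap_fromSpec_injective hW
    rw [Spec.map_comp, Category.assoc, IsAffineOpen.SpecMap_appLE_fromSpec q hW hV hVW,
      ← Category.assoc, ← hψ, hgY]
    erw [Spec.map_comp, Category.assoc]
    show _ = _ ≫ (Spec.map _ ≫ hW.fromSpec)
    rw [← IsAffineOpen.fromSpecStalk, IsAffineOpen.fromSpecStalk_eq_fromSpecStalk]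
    rfl
  have hA' : ∀ a, ψ (q.appLE W V hVW a) = algebraMap O K (X.presheaf.germ W x hxW a) := fun a =>
    ConcreteCategory.congr_hom hA a
  have hint : ∀ b : Γ(Y, V), (q.appLE W V hVW).hom.IsIntegralElem b → ψ b ∈ (algebraMap O K).range := by
    rintro b ⟨p, hp, hpb⟩
    have : IsIntegral O (ψ b) := by
      refine ⟨p.map (X.presheaf.germ W x hxW).hom, hp.map _, ?_⟩
      rw [Polynomial.eval₂_map]
      have h2 : (algebraMap O K).comp (X.presheaf.germ W x hxW).hom = ψ.hom.comp (q.appLE W V hVW).hom :=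
        (congrArg (fun (m : Γ(X, W) ⟶ CommRingCat.of K) => m.hom) hA).symm
      rw [h2, ← Polynomial.hom_eval₂, hpb, map_zero]
    exact IsIntegrallyClosed.algebraMap_eq_of_integral this
  algebraize [(q.appLE W V hVW).hom]
  have : Algebra.FiniteType Γ(X, W) Γ(Y, V) := q.finiteType_appLE hW hV hVW
  have : Algebra.QuasiFiniteAt Γ(X, W) (hV.primeIdealOf ⟨y₀, hyV⟩).asIdeal :=
    hqf.quasiFiniteAt hV hW hVW hyV
  obtain ⟨r, hrp, hr, hrb⟩ := Algebra.zariskisMainProperty_iff.1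
    (Algebra.ZariskisMainProperty.of_finiteType (R := Γ(X, W)) (hV.primeIdealOf ⟨y₀, hyV⟩).asIdeal)
  obtain ⟨c, hc⟩ := hint r hr
  let : Algebra Γ(X, W) O := (X.presheaf.germ W x hxW).hom.toAlgebra
  have : IsLocalization.AtPrime O (hW.primeIdealOf ⟨x, hxW⟩).asIdeal := hW.isLocalization_stalk ⟨x, hxW⟩
  have hp0 : ∀ a, a ∈ (hW.primeIdealOf ⟨x, hxW⟩).asIdeal ↔
      q.appLE W V hVW a ∈ (hV.primeIdealOf ⟨y₀, hyV⟩).asIdeal := by
    intro a
    have he : PrimeSpectrum.comap (q.appLE W V hVW).hom (hV.primeIdealOf ⟨y₀, hyV⟩) = hW.primeIdealOf ⟨x, hxW⟩ := by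
      apply hW.fromSpec.isOpenEmbedding.injective
      refine Eq.trans ?_ (hW.fromSpec_primeIdealOf ⟨x, hxW⟩).symm
      show (Spec.map (q.appLE W V hVW) ≫ hW.fromSpec) (hV.primeIdealOf ⟨y₀, hyV⟩) = x
      rw [IsAffineOpen.SpecMap_appLE_fromSpec q hW hV hVW]
      show q (hV.fromSpec (hV.primeIdealOf ⟨y₀, hyV⟩)) = x
      rw [hV.fromSpec_primeIdealOf ⟨y₀, hyV⟩, hy]
    rw [← he]; rfl
  have hcu : IsUnit c := by
    obtain ⟨⟨e, d⟩, hed⟩ := IsLocalization.surj (hW.primeIdealOf ⟨x, hxW⟩).asIdeal.primeCompl c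
    change c * X.presheaf.germ W x hxW (d : Γ(X, W)) = X.presheaf.germ W x hxW e at hed
    have hmem : r * q.appLE W V hVW (d : Γ(X, W)) - q.appLE W V hVW e ∈ (hV.primeIdealOf ⟨y₀, hyV⟩).asIdeal := by
      apply hker
      rw [RingHom.mem_ker, map_sub, map_mul, hA', hA', ← hc, ← map_mul, hed, sub_self]
    have he : e ∉ (hW.primeIdealOf ⟨x, hxW⟩).asIdeal := fun he => by
      have h1 := add_mem hmem ((hp0 e).1 he)
      rw [sub_add_cancel] at h1
      rcases Ideal.IsPrime.mem_or_mem (hV.primeIdealOf ⟨y₀, hyV⟩).2 h1 with h2 | h2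
      · exact hrp h2
      · exact d.2 ((hp0 _).2 h2)
    have hu : IsUnit (c * X.presheaf.germ W x hxW (d : Γ(X, W))) := by
      rw [hed]
      exact IsLocalization.map_units O (⟨e, he⟩ : (hW.primeIdealOf ⟨x, hxW⟩).asIdeal.primeCompl)
    exact isUnit_of_mul_isUnit_left hu
  have hrange : ∀ b, ψ b ∈ (algebraMap O K).range := fun b => by
    obtain ⟨m, hm⟩ := hrb b
    obtain ⟨d, hd⟩ := hint _ hm
    refine ⟨(↑(hcu.pow m).unit⁻¹ : O) * d, ?_⟩
    rw [map_mul, hd, map_mul, map_pow, ← hc, ← map_pow, ← mul_assoc, ← map_mul, IsUnit.val_inv_mul, map_one, one_mul]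
  obtain ⟨s, hs, hsgen, -⟩ := exists_extension_hom q hV hW hxW hVW gY hgY ψ hψ hrange
  exact ⟨s, hs, hsgen⟩

end Groth.Agent.An92.Rat
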