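import Groth.Agent.An92.Rat.SectionGlue
import Groth.Agent.An92.Rat.StalkQF
import Mathlib.AlgebraicGeometry.Morphisms.QuasiFinite
import Mathlib.AlgebraicGeometry.IdealSheaf.Subscheme

/-!
Rational maps defined at a normal point with an isolated point in the fibre of the graph.
-/

set_option autoImplicit false
universe u

open CategoryTheory CategoryTheory.Limits AlgebraicGeometry TopologicalSpace IsLocalRing Topology

namespace Groth.Agent.An92.Rat

variable {X Y S : Scheme.{u}}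

theorem isDomain_stalk_of_integral {W : X.Opens} {x : X} (hx : x ∈ W) (hint : IsIntegral (W : Scheme.{u})) :
    IsDomain (X.presheaf.stalk x) := by
  obtain ⟨V, hV, hxV, hVW⟩ := exists_isAffineOpen_mem_and_subset hx
  have : Nonempty (V : Scheme.{u}) := ⟨⟨x, hxV⟩⟩
  have : IsIntegral (V : Scheme.{u}) := isIntegral_of_isOpenImmersion (X.homOfLE (show V ≤ W from hVW))
  have h2 : IsDomain Γ(X, V) := V.topIso.commRingCatIsoToRingEquiv.symm.toMulEquiv.isDomain _
  let : Algebra Γ(X, V) (X.presheaf.stalk x) := (X.presheaf.germ V x hxV).hom.toAlgebra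
  have : IsLocalization.AtPrime (X.presheaf.stalk x) (hV.primeIdealOf ⟨x, hxV⟩).asIdeal :=
    hV.isLocalization_stalk ⟨x, hxV⟩
  exact IsLocalization.isDomain_of_le_nonZeroDivisors (S := X.presheaf.stalk x)
    (Ideal.primeCompl_le_nonZeroDivisors (hV.primeIdealOf ⟨x, hxV⟩).asIdeal)

theorem isGermInjectiveAt_of_integral {W : X.Opens} {x : X} (hx : x ∈ W) (hint : IsIntegral (W : Scheme.{u})) :
    X.IsGermInjectiveAt x :=
  (isGermInjectiveAt_iff_of_isOpenImmersion (f := W.ι) (x := (⟨x, hx⟩ : ↥(W : Scheme.{u})))).2 ((inferInstance : (W : Scheme.{u}).IsGermInjective) _)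

variable {x : X} [IsDomain (X.presheaf.stalk x)] {W : X.Opens}

theorem genPt_specializes_of_mem (hxW : x ∈ W) (hint : IsIntegral (W : Scheme.{u})) {z : X} (hz : z ∈ W) :
    genPt x ⤳ z := by
  let g : ↥(W : Scheme.{u}) := genericPoint ↥(W : Scheme.{u})
  have hgx : g.1 ⤳ x := (genericPoint_specializes (α := ↥(W : Scheme.{u})) ⟨x, hxW⟩).map W.ι.continuous
  exact (genPt_specializes_of_specializes x hgx).trans
    ((genericPoint_specializes (α := ↥(W : Scheme.{u})) ⟨z, hz⟩).map W.ι.continuous)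

theorem genPt_mem_of_integral {U : X.Opens} (hU : Dense (U : Set X)) (hxW : x ∈ W)
    (hint : IsIntegral (W : Scheme.{u})) : genPt x ∈ U := by
  obtain ⟨z, hzW, hzU⟩ := hU.inter_open_nonempty W W.2 ⟨x, hxW⟩
  exact (genPt_specializes_of_mem hxW hint hzW).mem_open U.2 hzU

theorem exists_nhd_extension (pX : X ⟶ S) (pY : Y ⟶ S) [LocallyOfFiniteType pY] [IsSeparated pY]
    (hxW : x ∈ W) (hint : IsIntegral (W : Scheme.{u})) {U : X.Opens} (hU : Dense (U : Set X))
    (h : (U : Scheme.{u}) ⟶ Y) (hh : h ≫ pY = U.ι ≫ pX)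
    (φ : Spec (X.presheaf.stalk x) ⟶ Y) (hφ : φ ≫ pY = X.fromSpecStalk x ≫ pX)
    (hgen : ∀ gU : Spec (CommRingCat.of (FractionRing (X.presheaf.stalk x))) ⟶ (U : Scheme.{u}),
      gU ≫ U.ι = genHom x → genStalk x ≫ φ = gU ≫ h) :
    ∃ (V : X.Opens) (v : (V : Scheme.{u}) ⟶ Y), x ∈ V ∧ v ≫ pY = V.ι ≫ pX ∧
      X.homOfLE (inf_le_right : U ⊓ V ≤ V) ≫ v = X.homOfLE (inf_le_left : U ⊓ V ≤ U) ≫ h := by
  have := isGermInjectiveAt_of_integral hxW hint
  obtain ⟨W1, hxW1, f1, hf1, hf1q⟩ := spread_out_of_isGermInjective' pX pY φ hφ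
  let V : X.Opens := W1 ⊓ W
  refine ⟨V, X.homOfLE (inf_le_left : V ≤ W1) ≫ f1, ⟨hxW1, hxW⟩, ?_, ?_⟩
  · rw [Category.assoc, hf1q, Scheme.homOfLE_ι_assoc]
  let T : X.Opens := U ⊓ V
  have hTW : T ≤ W := inf_le_right.trans inf_le_right
  let a : (T : Scheme.{u}) ⟶ Y := X.homOfLE (inf_le_left : T ≤ U) ≫ h
  let b : (T : Scheme.{u}) ⟶ Y := X.homOfLE (inf_le_right : T ≤ V) ≫ X.homOfLE (inf_le_left : V ≤ W1) ≫ f1
  have ha : T.ι ≫ pX = a ≫ pY := by rw [Category.assoc, hh, Scheme.homOfLE_ι_assoc]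
  have hb : T.ι ≫ pX = b ≫ pY := by
    rw [Category.assoc, Category.assoc, hf1q, Scheme.homOfLE_ι_assoc, Scheme.homOfLE_ι_assoc]
  have hηT : genPt x ∈ T :=
    ⟨genPt_mem_of_integral hU hxW hint, (genPt_specializes x).mem_open V.2 ⟨hxW1, hxW⟩⟩
  let jT := IsOpenImmersion.lift T.ι (genHom x) (by
    rw [range_genHom, Scheme.Opens.range_ι, Set.singleton_subset_iff]; exact hηT)
  have hjT : jT ≫ T.ι = genHom x := IsOpenImmersion.lift_fac _ _ _
  have hab0 : jT ≫ a = jT ≫ b := by
    have h1 : jT ≫ a = genStalk x ≫ φ := by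
      rw [hgen (jT ≫ X.homOfLE (inf_le_left : T ≤ U)) (by rw [Category.assoc, Scheme.homOfLE_ι, hjT]), Category.assoc]
    rw [h1, hf1, ← Category.assoc]
    show _ = jT ≫ X.homOfLE _ ≫ X.homOfLE _ ≫ f1
    rw [Scheme.homOfLE_homOfLE_assoc, ← Category.assoc jT]
    congr 1
    rw [← cancel_mono W1.ι]
    simp only [Category.assoc, Scheme.Opens.fromSpecStalkOfMem_ι, Scheme.homOfLE_ι, hjT]
    rfl
  have key := hom_ext_of_genHom (pullback.fst pX pY) hint (fun z hz => genPt_specializes_of_mem hxW hint hz) hTW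
    (pullback.lift T.ι a ha) (pullback.lift T.ι b hb) (by rw [pullback.lift_fst, pullback.lift_fst]) jT hjT (by
      apply pullback.hom_ext
      · simp only [Category.assoc, pullback.lift_fst]
      · simpa only [Category.assoc, pullback.lift_snd] using hab0)
  have h3 := congrArg (· ≫ pullback.snd pX pY) key
  simp only [pullback.lift_snd] at h3
  exact h3.symm

local instance quasiCompact_of_subsingleton {K : Type u} [Field K] {Z : Scheme.{u}}
    (g : Spec (CommRingCat.of K) ⟶ Z) : QuasiCompact g :=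
  ⟨fun s _ _ => (Set.subsingleton_of_subsingleton.finite (s := g ⁻¹' s)).isCompact⟩

theorem defined_of_isolated (pX : X ⟶ S) (pY : Y ⟶ S) [LocallyOfFiniteType pY] [IsSeparated pY]
    [IsIntegrallyClosed (X.presheaf.stalk x)] (hxW : x ∈ W) (hint : IsIntegral (W : Scheme.{u}))
    (U : X.Opens) (hU : Dense (U : Set X)) (h : (U : Scheme.{u}) ⟶ Y) (hh : U.ι ≫ pX = h ≫ pY)
    (z : ↥(pullback pX pY)) (hz : pullback.fst pX pY z = x)
    (hzΓ : z ∈ closure (Set.range (pullback.lift U.ι h hh)))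
    (hiso : ∃ O : (pullback pX pY).Opens, (O : Set ↥(pullback pX pY)) ∩ closure (Set.range (pullback.lift U.ι h hh)) ∩
      (pullback.fst pX pY) ⁻¹' {x} = {z}) :
    ∃ (V : X.Opens) (v : (V : Scheme.{u}) ⟶ Y), x ∈ V ∧ v ≫ pY = V.ι ≫ pX ∧
      X.homOfLE (inf_le_right : U ⊓ V ≤ V) ≫ v = X.homOfLE (inf_le_left : U ⊓ V ≤ U) ≫ h := by
  let σ := pullback.lift U.ι h hh
  let p := pullback.fst pX pY
  let gU := IsOpenImmersion.lift U.ι (genHom x) (by
    rw [range_genHom, Scheme.Opens.range_ι, Set.singleton_subset_iff]; exact genPt_mem_of_integral hU hxW hint)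
  have hgU : gU ≫ U.ι = genHom x := IsOpenImmersion.lift_fac _ _ _
  let P0 : Spec (CommRingCat.of (FractionRing (X.presheaf.stalk x))) := ⟨⊥, Ideal.isPrime_bot⟩
  let gP := gU ≫ σ
  have hgU0 : (gU P0).1 = genPt x := by
    have h1 : genHom x P0 ∈ Set.range (genHom x) := ⟨P0, rfl⟩
    rw [range_genHom, Set.mem_singleton_iff] at h1
    rw [← h1]
    exact congrArg (fun (m : Spec (CommRingCat.of (FractionRing (X.presheaf.stalk x))) ⟶ X) => m P0) hgU
  have hzcl : z ∈ closure {gP P0} := by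
    have hmem : z ∈ ((p ⁻¹ᵁ W : (pullback pX pY).Opens) : Set ↥(pullback pX pY)) := by
      show pullback.fst pX pY z ∈ W; rw [hz]; exact hxW
    refine (closure_minimal ?_ isClosed_closure) ((p ⁻¹ᵁ W).2.inter_closure ⟨hmem, hzΓ⟩)
    rintro _ ⟨hw, u, rfl⟩
    rw [← specializes_iff_mem_closure]
    have huW : u.1 ∈ W := by
      have : p (σ u) = U.ι u :=
        congrArg (fun (m : (U : Scheme.{u}) ⟶ X) => m u) (pullback.lift_fst U.ι h hh)
      show W.carrier u.1
      have hw' : p (σ u) ∈ W := hw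
      rwa [this] at hw'
    have h2 : gU P0 ⤳ u := U.ι.isOpenEmbedding.isInducing.specializes_iff.1 (by
      show (gU P0).1 ⤳ u.1
      rw [hgU0]; exact genPt_specializes_of_mem hxW hint huW)
    exact h2.map σ.continuous
  let Γ := gP.image
  let ι := gP.imageι
  let q : Γ ⟶ X := ι ≫ p
  have hrange : Set.range ι = closure (Set.range gP) := by
    rw [← gP.support_ker]; exact Scheme.IdealSheafData.range_subschemeι _
  obtain ⟨y₀, hy₀⟩ : z ∈ Set.range ι := by
    rw [hrange]; exact closure_mono (by rintro _ rfl; exact ⟨P0, rfl⟩) hzcl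
  have hqy : q y₀ = x := by
    show p (ι y₀) = x; rw [hy₀]; exact hz
  have hgY : gP.toImage ≫ q = genHom x := by
    rw [← Category.assoc, Scheme.Hom.toImage_imageι, Category.assoc, pullback.lift_fst, hgU]
  have hspec : gP.toImage P0 ⤳ y₀ := by
    refine ι.isClosedEmbedding.isInducing.specializes_iff.1 ?_
    rw [hy₀]
    have : ι (gP.toImage P0) = gP P0 :=
      congrArg (fun (m : Spec (CommRingCat.of (FractionRing (X.presheaf.stalk x))) ⟶ pullback pX pY) => m P0)
        gP.toImage_imageι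
    rw [this, specializes_iff_mem_closure]
    exact hzcl
  have hqf : q.QuasiFiniteAt y₀ := by
    rw [Scheme.Hom.quasiFiniteAt_iff_isOpen_singleton_asFiber]
    obtain ⟨O, hO⟩ := hiso
    have hsub : Set.range ι ⊆ closure (Set.range σ) := by
      rw [hrange]; exact closure_mono (by rintro _ ⟨P, rfl⟩; exact ⟨gU P, rfl⟩)
    have hzO : z ∈ (O : Set ↥(pullback pX pY)) := ((Set.ext_iff.1 hO z).2 rfl).1.1
    have heq : {q.asFiber y₀} = (q.fiberι (q y₀)) ⁻¹' (ι ⁻¹' (O : Set ↥(pullback pX pY))) := by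
      ext w
      have hw : q (q.fiberι (q y₀) w) = x := by
        rw [← hqy]
        have := Set.mem_range_self (f := q.fiberι (q y₀)) w
        rw [Scheme.Hom.range_fiberι] at this
        exact this
      constructor
      · rintro rfl
        show ι (q.fiberι (q y₀) (q.asFiber y₀)) ∈ (O : Set ↥(pullback pX pY))
        rw [Scheme.Hom.fiberι_asFiber, hy₀]
        exact hzO
      · intro hwO
        have h1 : ι (q.fiberι (q y₀) w) = z := by
          have := (Set.ext_iff.1 hO (ι (q.fiberι (q y₀) w))).1 ⟨⟨hwO, hsub ⟨_, rfl⟩⟩, hw⟩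
          exact this
        have h2 : q.fiberι (q y₀) w = y₀ := ι.isClosedEmbedding.injective (h1.trans hy₀.symm)
        apply (q.fiberι (q y₀)).isEmbedding.injective
        rw [h2, Scheme.Hom.fiberι_asFiber]
    rw [heq]
    exact ((O.2.preimage ι.continuous)).preimage (q.fiberι (q y₀)).continuous
  obtain ⟨s, hs, hsgen⟩ := exists_stalk_hom_of_quasiFiniteAt q gP.toImage hgY y₀ hqy hspec hqf
  refine exists_nhd_extension pX pY hxW hint hU h hh.symm (s ≫ ι ≫ pullback.snd pX pY) ?_ ?_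
  · rw [Category.assoc, Category.assoc, ← pullback.condition, ← Category.assoc ι, ← Category.assoc s, hs]
  · intro gU' hgU'
    rw [(cancel_mono U.ι).1 (hgU'.trans hgU.symm)]
    show genStalk x ≫ s ≫ _ = _
    rw [← Category.assoc (genStalk x)]
    erw [hsgen]
    rw [ ← Category.assoc, Scheme.Hom.toImage_imageι, Category.assoc,
      pullback.lift_snd]

end Groth.Agent.An92.Rat
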