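import Groth.Prelude.Def_CInt
import Groth.Agent.LimTop61.SchDenseLim
import Groth.Agent.LimTop61.MaximalPoints
import Groth.Agent.Div89.WeakAss
import Groth.Agent.EGA4Alg4.Depth

/-!
Schematically dense opens: basic criteria.
-/

set_option autoImplicit false

universe u

open CategoryTheory AlgebraicGeometry TopologicalSpace Opposite

namespace Groth.Agent.An92.Rat

variable {X : Scheme.{u}}

theorem schDense_mono {U U' : X.Opens} (h : U ≤ U') (hU : CInt.IsSchematicallyDense U) :
    CInt.IsSchematicallyDense U' := by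
  intro W a b hab
  apply hU W
  have := congrArg (X.presheaf.map (homOfLE (inf_le_inf_left W h)).op) hab
  rw [← ConcreteCategory.comp_apply, ← ConcreteCategory.comp_apply, ← X.presheaf.map_comp] at this
  exact this

theorem schDense_basicOpen (s : Γ(X, ⊤))
    (hs : ∀ x : X, (X.presheaf.germ ⊤ x trivial s) ∈ nonZeroDivisors (X.presheaf.stalk x)) :
    CInt.IsSchematicallyDense (X.basicOpen s) := by
  intro V
  rw [injective_iff_map_eq_zero]
  intro t ht
  refine TopCat.Presheaf.section_ext X.sheaf _ _ _ fun x hx => ?_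
  obtain ⟨_, ⟨W, hW, rfl⟩, hxW, hWV⟩ := X.isBasis_affineOpens.exists_subset_of_mem_open hx V.isOpen
  set s' := X.presheaf.map (homOfLE (le_top : W ≤ ⊤)).op s with hs'
  set t' := X.presheaf.map (homOfLE (hWV : W ≤ V)).op t with ht'
  obtain ⟨n, hn⟩ := exists_pow_mul_eq_zero_of_res_basicOpen_eq_zero_of_isCompact X
    (U := W) hW.isCompact t' s' (by
      have hle : X.basicOpen s' ≤ V ⊓ X.basicOpen s := by
        rw [hs', X.basicOpen_res]
        exact inf_le_inf_right _ hWV
      have h1 := congrArg (X.presheaf.map (homOfLE hle).op) ht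
      rw [map_zero, ← ConcreteCategory.comp_apply, ← X.presheaf.map_comp] at h1
      show X.presheaf.map (homOfLE (X.basicOpen_le s')).op t' = 0
      rw [ht', ← ConcreteCategory.comp_apply, ← X.presheaf.map_comp]
      exact h1)
  have h2 := congrArg (X.presheaf.germ W x hxW) hn
  rw [map_zero, map_mul, map_pow, hs', ht'] at h2
  erw [TopCat.Presheaf.germ_res_apply, TopCat.Presheaf.germ_res_apply] at h2
  have h3 := (mul_left_mem_nonZeroDivisors_eq_zero_iff (pow_mem (hs x) n)).1 h2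
  exact h3.trans (map_zero (X.presheaf.germ V x hx).hom).symm

theorem dense_of_schDense {U : X.Opens} (h : CInt.IsSchematicallyDense U) : Dense (U : Set X) := by
  rw [dense_iff_inter_open]
  intro W hW hne
  rw [Set.nonempty_iff_ne_empty]
  intro he
  obtain ⟨x, hx⟩ := hne
  let W' : X.Opens := ⟨W, hW⟩
  have hbot : (W' ⊓ U : X.Opens) = ⊥ := Opens.ext he
  have : Subsingleton Γ(X, W' ⊓ U) :=
    CommRingCat.subsingleton_of_isTerminal (hbot ▸ X.sheaf.isTerminalOfEmpty)
  have h1 : (1 : Γ(X, W')) = 0 := h W' (Subsingleton.elim _ _)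
  have h2 := congrArg (X.presheaf.germ W' x hx) h1
  rw [map_one, map_zero] at h2
  exact one_ne_zero h2

theorem schDense_of_dense [IsReduced X] {U : X.Opens} (h : Dense (U : Set X)) :
    CInt.IsSchematicallyDense U := by
  intro V
  rw [injective_iff_map_eq_zero]
  intro s hs
  refine eq_zero_of_basicOpen_eq_bot s ?_
  by_contra hne
  obtain ⟨y, hy⟩ : (X.basicOpen s : Set X).Nonempty := by
    rw [Set.nonempty_iff_ne_empty]
    exact fun he => hne (Opens.ext he)
  obtain ⟨z, hz, hzU⟩ := h.inter_open_nonempty _ (X.basicOpen s).isOpen ⟨y, hy⟩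
  have hzV : z ∈ V ⊓ U := ⟨X.basicOpen_le s hz, hzU⟩
  have h1 := congrArg (X.presheaf.germ (V ⊓ U) z hzV) hs
  rw [map_zero, TopCat.Presheaf.germ_res_apply] at h1
  have h2 := (X.mem_basicOpen s z (X.basicOpen_le s hz)).1 hz
  rw [h1] at h2
  exact not_isUnit_zero h2

theorem exists_cutsOut_of_isLocallyNoetherian [IsLocallyNoetherian X] (U : X.Opens) {V : X.Opens}
    (hV : IsAffineOpen V) : ∃ S : Finset Γ(X, V), LimTop61.CutsOut U V S := by
  have : IsNoetherianRing Γ(X, V) := IsLocallyNoetherian.component_noetherian ⟨V, hV⟩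
  have : NoetherianSpace (V : Set X) := noetherianSpace_of_isAffineOpen V hV
  have hc : IsCompact ((V ⊓ U : X.Opens) : Set X) := by
    have h1 : IsCompact (Subtype.val ⁻¹' (U : Set X) : Set (V : Set X)) := NoetherianSpace.isCompact _
    have h2 := h1.image continuous_subtype_val
    rwa [Subtype.image_preimage_coe] at h2
  obtain ⟨t, ht⟩ := hc.elim_finite_subcover
    (fun r : {r : Γ(X, V) // X.basicOpen r ≤ U} => (X.basicOpen r.1 : Set X)) (fun r => (X.basicOpen r.1).2)
    (fun x hx => by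
      obtain ⟨f, hf, hxf⟩ := hV.exists_basicOpen_le (⟨x, hx.2⟩ : U) hx.1
      exact Set.mem_iUnion.mpr ⟨⟨f, hf⟩, hxf⟩)
  classical
  refine ⟨t.image Subtype.val, fun x hx => ⟨fun hxU => ?_, ?_⟩⟩
  · obtain ⟨r, hr, hxr⟩ := Set.mem_iUnion₂.mp (ht ⟨hx, hxU⟩)
    exact ⟨r.1, Finset.mem_image_of_mem _ hr, hxr⟩
  · rintro ⟨r, hr, hxr⟩
    obtain ⟨r, -, rfl⟩ := Finset.mem_image.mp hr
    exact r.2 hxr

theorem schDense_preimage_of_flat {X' : Scheme.{u}} (f : X' ⟶ X) [Flat f] [IsLocallyNoetherian X]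
    {U : X.Opens} (hU : CInt.IsSchematicallyDense U) : CInt.IsSchematicallyDense (f ⁻¹ᵁ U) := by
  classical
  have hch : ∀ y : X', ∃ (V : X.Opens) (W : X'.Opens) (S : Finset Γ(X, V)),
      IsAffineOpen V ∧ IsAffineOpen W ∧ y ∈ W ∧ W ≤ f ⁻¹ᵁ V ∧ LimTop61.CutsOut U V S := fun y => by
    obtain ⟨_, ⟨V, hV, rfl⟩, hyV, -⟩ :=
      X.isBasis_affineOpens.exists_subset_of_mem_open (show f y ∈ (⊤ : X.Opens) from trivial)
        (⊤ : X.Opens).isOpen
    obtain ⟨_, ⟨W, hW, rfl⟩, hyW, hWV⟩ :=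
      X'.isBasis_affineOpens.exists_subset_of_mem_open (show y ∈ f ⁻¹ᵁ V from hyV) (f ⁻¹ᵁ V).isOpen
    obtain ⟨S, hS⟩ := exists_cutsOut_of_isLocallyNoetherian U hV
    exact ⟨V, W, S, hV, hW, hyW, hWV, hS⟩
  choose V W S hV hW hyW hWV hS using hch
  refine LimTop61.isSchematicallyDense_of_regFam W hW (fun y => ⟨y, hyW y⟩)
    (fun y => (S y).image (f.appLE (V y) (W y) (hWV y))) (fun y z hz => ?_) (fun y => ?_)
  · refine (hS y (f z) (hWV y hz)).trans ⟨?_, ?_⟩
    · rintro ⟨r, hr, hzr⟩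
      refine ⟨_, Finset.mem_image_of_mem _ hr, ?_⟩
      rw [Scheme.basicOpen_appLE]
      exact ⟨hz, hzr⟩
    · rintro ⟨_, hr', hzr⟩
      obtain ⟨r, hr, rfl⟩ := Finset.mem_image.mp hr'
      rw [Scheme.basicOpen_appLE] at hzr
      exact ⟨r, hr, hzr.2⟩
  · have hreg := LimTop61.regFam_of_isSchematicallyDense hU (hS y)
    have hfl : (f.appLE (V y) (W y) (hWV y)).hom.Flat := f.flat_appLE (hV y) (hW y) _
    algebraize [(f.appLE (V y) (W y) (hWV y)).hom]
    intro b hb
    obtain ⟨k, a, z, hz, ha⟩ := LimTop61.exists_sum_of_flat (S y) b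
      fun r hr => hb _ (Finset.mem_image_of_mem _ hr)
    rw [hz]
    refine Finset.sum_eq_zero fun l _ => ?_
    rw [hreg (a l) fun r hr => ha r hr l, zero_smul]

theorem isMaxPt_image {X' : Scheme.{u}} (f : X' ⟶ X)
    (hdom : ∀ Z' ∈ irreducibleComponents X', closure (f '' Z') ∈ irreducibleComponents X)
    {η' : X'} (hη' : LimTop61.IsMaxPt η') : LimTop61.IsMaxPt (f η') := by
  have hc : closure ({η'} : Set X') ∈ irreducibleComponents X' := by
    obtain ⟨Z, hZ, hsub⟩ := exists_mem_irreducibleComponents_subset_of_isIrreducible {η'}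
      isIrreducible_singleton
    obtain ⟨ξ, hξ⟩ := QuasiSober.sober hZ.1 (isClosed_of_mem_irreducibleComponents Z hZ)
    have : ξ = η' := hη' ξ (hξ.specializes (hsub rfl))
    subst this
    rwa [hξ.def]
  intro z hz
  have h1 := hdom _ hc
  have h2 : closure (f '' closure {η'}) = closure {f η'} := by
    rw [closure_image_closure f.continuous, Set.image_singleton]
  rw [h2] at h1
  have h3 : closure {f η'} ⊆ closure {z} := hz.closure_subset
  have h4 : closure {z} = closure {f η'} :=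
    Set.Subset.antisymm (h1.le_of_ge isIrreducible_singleton.closure h3) h3
  exact IsGenericPoint.eq h4 isGenericPoint_closure

theorem mem_of_dense_of_isMaxPt {V : X.Opens} (hV : Dense (V : Set X)) {η : X}
    (hη : LimTop61.IsMaxPt η) {W : X.Opens} (hηW : η ∈ W)
    (hfin : {Z ∈ irreducibleComponents X | (Z ∩ (W : Set X)).Nonempty}.Finite) : η ∈ V := by
  let C : Set X := ⋃ Z ∈ {Z ∈ irreducibleComponents X | (Z ∩ (W : Set X)).Nonempty} \
      {closure {η}}, Z
  have hC : IsClosed C := hfin.sdiff.isClosed_biUnion fun Z hZ =>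
    isClosed_of_mem_irreducibleComponents Z hZ.1.1
  have hηC : η ∈ Cᶜ := fun h => by
    obtain ⟨Z, hZ, hηZ⟩ := Set.mem_iUnion₂.mp h
    obtain ⟨ξ, hξ⟩ := QuasiSober.sober hZ.1.1.1 (isClosed_of_mem_irreducibleComponents Z hZ.1.1)
    have : ξ = η := hη ξ (hξ.specializes hηZ)
    subst this
    exact hZ.2 hξ.def.symm
  obtain ⟨v, hv, hvV⟩ := hV.inter_open_nonempty _ (W.isOpen.inter hC.isOpen_compl) ⟨η, hηW, hηC⟩
  have hZ := irreducibleComponent_mem_irreducibleComponents v
  have heq : irreducibleComponent v = closure {η} := by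
    by_contra hne
    exact hv.2 (Set.mem_biUnion ⟨⟨hZ, v, mem_irreducibleComponent, hv.1⟩, hne⟩ mem_irreducibleComponent)
  have hηv : η ⤳ v := specializes_iff_mem_closure.2 (heq ▸ mem_irreducibleComponent)
  exact hηv.mem_open V.isOpen hvV

theorem schDense_iff_depth [IsLocallyNoetherian X] (U : X.Opens) :
    CInt.IsSchematicallyDense U ↔
      ∀ x : X, x ∉ U → (1 : ℕ∞) ≤ LocCoh.depth (X.presheaf.stalk x) (X.presheaf.stalk x) := by
  constructor
  · intro hU x hxU
    rw [Order.one_le_iff_pos, pos_iff_ne_zero]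
    intro h0
    have h1 := EGA4Alg4.depth_eq_zero_iff.1 h0
    exact hxU (Div89.mem_of_isSchematicallyDense hU x
      ((Div89.isWeakAssPoint_structureModule_iff' x).2 h1))
  · intro h
    refine Div89.isSchematicallyDense_of_weakAss U fun x hx => ?_
    by_contra hxU
    have h1 := h x hxU
    rw [Order.one_le_iff_pos, pos_iff_ne_zero] at h1
    exact h1 (EGA4Alg4.depth_eq_zero_iff.2 ((Div89.isWeakAssPoint_structureModule_iff' x).1 hx))

/-- The ideal of the functions whose locus of invertibility lies in `U`. -/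
def leIdeal (U : X.Opens) : Ideal Γ(X, ⊤) where
  carrier := {t | X.basicOpen t ≤ U}
  add_mem' := fun {a b} ha hb => show X.basicOpen (a + b) ≤ U from
    le_trans (show X.basicOpen (a + b) ≤ X.basicOpen a ⊔ X.basicOpen b from fun y hy => by
    have h1 := (X.mem_basicOpen (a + b) y trivial).1 hy
    rw [map_add] at h1
    rcases IsLocalRing.isUnit_or_isUnit_of_isUnit_add h1 with h | h
    · exact Or.inl ((X.mem_basicOpen a y trivial).2 h)
    · exact Or.inr ((X.mem_basicOpen b y trivial).2 h)) (sup_le ha hb)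
  zero_mem' := by simp
  smul_mem' := fun c t ht => by
    rw [Set.mem_ofPred_eq, smul_eq_mul, X.basicOpen_mul]
    exact inf_le_right.trans ht

theorem mem_leIdeal {U : X.Opens} {t : Γ(X, ⊤)} : t ∈ leIdeal U ↔ X.basicOpen t ≤ U := Iff.rfl

theorem exists_nzd_of_schDense [IsAffine X]
    (hX : IsNoetherian X ∨ (IsReduced X ∧ (irreducibleComponents X).Finite)) (U : X.Opens)
    (hU : CInt.IsSchematicallyDense U) :
    ∃ t : Γ(X, ⊤), t ∈ nonZeroDivisors Γ(X, ⊤) ∧ X.basicOpen t ≤ U := by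
  classical
  have hmem : ∀ y : X, y ∈ U → ∃ t ∈ leIdeal U, y ∈ X.basicOpen t := fun y hy => by
    obtain ⟨t, ht, hyt⟩ := (isAffineOpen_top X).exists_basicOpen_le (⟨y, hy⟩ : U) trivial
    exact ⟨t, mem_leIdeal.2 ht, hyt⟩
  rcases hX with hX | ⟨hred, hfin⟩
  · have : IsNoetherianRing Γ(X, ⊤) :=
      IsLocallyNoetherian.component_noetherian ⟨⊤, isAffineOpen_top X⟩
    by_contra! hno
    rcases subsingleton_or_nontrivial Γ(X, ⊤) with hsub | hnt
    · have h1 : (1 : Γ(X, ⊤)) = 0 := Subsingleton.elim _ _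
      exact hno 1 (one_mem _) (by rw [h1]; simp)
    obtain ⟨p, hp, hle⟩ := EGA4Alg4.exists_le_assoc_of_forall_not_regular (M := Γ(X, ⊤)) (leIdeal U)
      fun t ht hreg => hno t
        (mem_nonZeroDivisors_iff_right.2 fun x hx => hreg (by simpa [mul_comm] using hx))
        (mem_leIdeal.1 ht)
    obtain ⟨hpp, a, ha⟩ := isAssociatedPrime_iff.1 hp
    have hkill : ∀ t ∈ leIdeal U, t * a = 0 := fun t ht => by
      have h1 := hle ht
      rw [ha] at h1
      simpa [Submodule.mem_colon_singleton] using h1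
    have ha0 : a = 0 := by
      refine hU ⊤ ?_
      rw [map_zero]
      refine TopCat.Presheaf.section_ext X.sheaf _ _ _ fun y hy => ?_
      obtain ⟨t, ht, hyt⟩ := hmem y hy.2
      erw [TopCat.Presheaf.germ_res_apply, map_zero]
      have hu := (X.mem_basicOpen t y trivial).1 hyt
      refine hu.mul_right_eq_zero.1 ?_
      exact (map_mul (X.presheaf.germ ⊤ y trivial).hom t a).symm.trans
        ((congrArg _ (hkill t ht)).trans (map_zero _))
    refine hpp.ne_top ((Ideal.eq_top_iff_one _).2 ?_)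
    rw [ha, ha0]
    simp [Submodule.mem_colon_singleton]
  · let M := {η : X | LimTop61.IsMaxPt η}
    have hMfin : M.Finite := (genericPoints.finite hfin).subset fun η hη => by
      obtain ⟨Z, hZ, hsub⟩ := exists_mem_irreducibleComponents_subset_of_isIrreducible {η}
        isIrreducible_singleton
      obtain ⟨ξ, hξ⟩ := QuasiSober.sober hZ.1 (isClosed_of_mem_irreducibleComponents Z hZ)
      have : ξ = η := hη ξ (hξ.specializes (hsub rfl))
      subst this
      show closure {ξ} ∈ irreducibleComponents X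
      rwa [hξ.def]
    let pr : X → Ideal Γ(X, ⊤) := fun η =>
      (IsLocalRing.maximalIdeal (X.presheaf.stalk η)).comap (X.presheaf.germ ⊤ η trivial).hom
    have hpr : ∀ η t, t ∉ pr η ↔ η ∈ X.basicOpen t := fun η t => by
      rw [X.mem_basicOpen t η trivial]
      simp [pr]
    have hV : Dense (U : Set X) := dense_of_schDense hU
    obtain ⟨t, htI, htM⟩ : ∃ t ∈ leIdeal U, ∀ η ∈ M, t ∉ pr η := by
      by_contra! hcon
      rcases M.eq_empty_or_nonempty with hM | ⟨η₀, hη₀⟩
      · obtain ⟨η, hη, -⟩ := hcon 0 (zero_mem _)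
        rw [hM] at hη
        exact hη
      have hsub : (leIdeal U : Set Γ(X, ⊤)) ⊆ ⋃ η ∈ (hMfin.toFinset : Set X), (pr η : Set Γ(X, ⊤)) :=
        fun t ht => by
          obtain ⟨η, hη, htη⟩ := hcon t ht
          exact Set.mem_biUnion (hMfin.mem_toFinset.2 hη) htη
      obtain ⟨η, hη, hle⟩ := (Ideal.subset_union_prime η₀ η₀
        (fun η _ _ _ => Ideal.comap_isPrime _ _)).1 hsub
      obtain ⟨t, ht, hηt⟩ := hmem η (mem_of_dense_of_isMaxPt hV (hMfin.mem_toFinset.1 hη) (W := ⊤)
        trivial (hfin.subset fun Z hZ => hZ.1))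
      exact (hpr η t).2 hηt (hle ht)
    refine ⟨t, mem_nonZeroDivisors_iff_right.2 fun a ha => ?_, mem_leIdeal.1 htI⟩
    refine eq_zero_of_basicOpen_eq_bot a ?_
    by_contra hne
    obtain ⟨y, hy⟩ : (X.basicOpen a : Set X).Nonempty := by
      rw [Set.nonempty_iff_ne_empty]
      exact fun he => hne (Opens.ext he)
    obtain ⟨η, hη, hηy⟩ := LimTop61.exists_isMaxPt_specializes y
    have h1 : η ∈ X.basicOpen a ⊓ X.basicOpen t :=
      ⟨hηy.mem_open (X.basicOpen a).isOpen hy, (hpr η t).1 (htM η hη)⟩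
    rw [← X.basicOpen_mul, ha] at h1
    simp at h1

theorem schDense_basicOpen_of_nzd [IsAffine X] (t : Γ(X, ⊤)) (ht : t ∈ nonZeroDivisors Γ(X, ⊤)) :
    CInt.IsSchematicallyDense (X.basicOpen t) := by
  refine schDense_basicOpen t fun x => ?_
  letI := TopCat.Presheaf.algebra_section_stalk X.presheaf (U := ⊤) ⟨x, trivial⟩
  have := (isAffineOpen_top X).isLocalization_stalk ⟨x, trivial⟩
  let P : Ideal Γ(X, ⊤) := ((isAffineOpen_top X).primeIdealOf ⟨x, trivial⟩).asIdeal
  exact IsLocalization.map_nonZeroDivisors_le P.primeCompl (X.presheaf.stalk x) ⟨t, ht, rfl⟩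

end Groth.Agent.An92.Rat
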