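import Groth.Agent.An92.Rat.DvrInter
import Groth.Agent.E4O.GenOpen
import Groth.Agent.EGA73.ExtendCodimOne
import Mathlib.AlgebraicGeometry.Morphisms.Separated
import Mathlib.AlgebraicGeometry.ZariskisMainTheorem
import Mathlib.AlgebraicGeometry.AffineScheme

/-!
Extension of a section to a normal point: valuative criteria.
-/

set_option autoImplicit false
universe u

open CategoryTheory AlgebraicGeometry TopologicalSpace IsLocalRing Topology

namespace Groth.Agent.An92.Rat

theorem range_subset_of_closedPoint_mem {R : Type u} [CommRing R] [IsLocalRing R] {Y : Scheme.{u}}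
    (g : Spec (CommRingCat.of R) ⟶ Y) (V : Y.Opens) (h : g (closedPoint R) ∈ V) :
    Set.range g ⊆ (V : Set Y) := by
  rintro _ ⟨p, rfl⟩
  exact ((IsLocalRing.specializes_closedPoint p).map g.continuous).mem_open V.2 h

theorem exists_specMap {R : Type u} [CommRing R] {Y : Scheme.{u}} {V : Y.Opens} (hV : IsAffineOpen V)
    (g : Spec (CommRingCat.of R) ⟶ Y) (hg : Set.range g ⊆ (V : Set Y)) :
    ∃ φ : Γ(Y, V) ⟶ CommRingCat.of R, g = Spec.map φ ≫ hV.fromSpec := by
  refine ⟨Spec.preimage (IsOpenImmersion.lift hV.fromSpec g (by rw [hV.range_fromSpec]; exact hg)), ?_⟩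
  rw [Spec.map_preimage, IsOpenImmersion.lift_fac]

theorem specMap_fromSpec_injective {R : CommRingCat.{u}} {Y : Scheme.{u}} {V : Y.Opens} (hV : IsAffineOpen V)
    {φ ψ : Γ(Y, V) ⟶ R} (h : Spec.map φ ≫ hV.fromSpec = Spec.map ψ ≫ hV.fromSpec) : φ = ψ :=
  Spec.map_injective ((cancel_mono hV.fromSpec).1 h)

theorem hom_ext_affine {R L : Type u} [CommRing R] [CommRing L] {Y : Scheme.{u}} {V : Y.Opens}
    (hV : IsAffineOpen V) (j : R →+* L) (hj : Function.Injective j) (a b : Spec (CommRingCat.of R) ⟶ Y)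
    (ha : Set.range a ⊆ (V : Set Y)) (hb : Set.range b ⊆ (V : Set Y))
    (h : Spec.map (CommRingCat.ofHom j) ≫ a = Spec.map (CommRingCat.ofHom j) ≫ b) : a = b := by
  obtain ⟨φ, rfl⟩ := exists_specMap hV a ha
  obtain ⟨ψ, rfl⟩ := exists_specMap hV b hb
  rw [← Spec.map_comp_assoc, ← Spec.map_comp_assoc] at h
  have h2 := specMap_fromSpec_injective hV h
  suffices φ = ψ by rw [this]
  ext z
  exact hj (ConcreteCategory.congr_hom h2 z)

variable {X Y : Scheme.{u}}

theorem exists_integral_nhd [IsLocallyNoetherian X] (x : X) [IsDomain (X.presheaf.stalk x)] :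
    ∃ W : X.Opens, IsAffineOpen W ∧ x ∈ W ∧ IsIntegral (W : Scheme.{u}) := by
  obtain ⟨W, hx, hW, hinj⟩ := X.exists_germ_injective x
  refine ⟨W, hW, hx, ?_⟩
  have : IsDomain Γ(X, W) := Function.Injective.isDomain _ hinj
  have : IsAffine (W : Scheme.{u}) := hW
  have : Nonempty (W : Scheme.{u}) := ⟨⟨x, hx⟩⟩
  have : IsDomain Γ((W : Scheme.{u}), ⊤) := W.topIso.commRingCatIsoToRingEquiv.toMulEquiv.isDomain _
  exact isIntegral_of_isAffine_of_isDomain _

/-- The generic point of the component through a point with a domain as local ring. -/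
noncomputable abbrev genPt (x : X) [IsDomain (X.presheaf.stalk x)] : X :=
  X.fromSpecStalk x ⟨⊥, Ideal.isPrime_bot⟩

theorem genPt_specializes (x : X) [IsDomain (X.presheaf.stalk x)] : genPt x ⤳ x := by
  have : genPt x ∈ Set.range (X.fromSpecStalk x) := ⟨_, rfl⟩
  rwa [Scheme.range_fromSpecStalk] at this

theorem genPt_specializes_of_specializes (x : X) [IsDomain (X.presheaf.stalk x)] {z : X} (hz : z ⤳ x) :
    genPt x ⤳ z := by
  obtain ⟨p, rfl⟩ : z ∈ Set.range (X.fromSpecStalk x) := by rw [Scheme.range_fromSpecStalk]; exact hz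
  exact (((PrimeSpectrum.le_iff_specializes ⟨⊥, Ideal.isPrime_bot⟩ p).1 bot_le)).map (X.fromSpecStalk x).continuous

theorem genPt_mem [IsLocallyNoetherian X] {U : X.Opens} (hU : Dense (U : Set X)) (x : X)
    [IsDomain (X.presheaf.stalk x)] : genPt x ∈ U := by
  obtain ⟨W, -, hxW, hint⟩ := exists_integral_nhd x
  obtain ⟨z, hzW, hzU⟩ := hU.inter_open_nonempty W W.2 ⟨x, hxW⟩
  let g : (W : Scheme.{u}) := genericPoint (W : Scheme.{u})
  have hgU : g.1 ∈ U := ((genericPoint_specializes (α := ↥(W : Scheme.{u})) ⟨z, hzW⟩).map W.ι.continuous).mem_open U.2 hzU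
  have hgx : g.1 ⤳ x := (genericPoint_specializes (α := ↥(W : Scheme.{u})) ⟨x, hxW⟩).map W.ι.continuous
  have hη : genPt x ∈ W := (genPt_specializes x).mem_open W.2 hxW
  have hgη : g.1 ⤳ genPt x := (genericPoint_specializes (α := ↥(W : Scheme.{u})) ⟨_, hη⟩).map W.ι.continuous
  rw [((genPt_specializes_of_specializes x hgx).antisymm hgη).eq]
  exact hgU

theorem isLocallyConstructible_of_isOpen [IsLocallyNoetherian X] {s : Set X} (hs : IsOpen s) :
    IsLocallyConstructible s := by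
  intro z
  obtain ⟨W, hW, hzW, -⟩ := exists_isAffineOpen_mem_and_subset (U := (⊤ : X.Opens)) (Opens.mem_top z)
  have : IsNoetherianRing Γ(X, W) := IsLocallyNoetherian.component_noetherian ⟨W, hW⟩
  have : TopologicalSpace.NoetherianSpace (W : Set X) := noetherianSpace_of_isAffineOpen W hW
  refine ⟨W, W.2.mem_nhds hzW, W.2, ?_⟩
  exact IsRetrocompact.isConstructible (hs.preimage continuous_subtype_val) fun t _ _ => NoetherianSpace.isCompact _

section Ext

variable (q : Y ⟶ X) {x : X} [IsDomain (X.presheaf.stalk x)]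

set_option quotPrecheck false in
local notation "O" => (CommRingCat.carrier (X.presheaf.stalk x))
set_option quotPrecheck false in
local notation "K" => FractionRing (CommRingCat.carrier (X.presheaf.stalk x))

/-- The generic point of `Spec O_{X,x}` mapped to `X`. -/
noncomputable abbrev genHom (x : X) [IsDomain (X.presheaf.stalk x)] :
    Spec (CommRingCat.of (FractionRing (X.presheaf.stalk x))) ⟶ X :=
  Spec.map (CommRingCat.ofHom (algebraMap (X.presheaf.stalk x) (FractionRing (X.presheaf.stalk x)))) ≫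
    X.fromSpecStalk x

theorem range_genHom : Set.range (genHom x) = {genPt x} := by
  have h : ∀ p, genHom x p = genPt x := fun p => by
    show X.fromSpecStalk x _ = _
    congr 1
    apply PrimeSpectrum.ext
    show (p.asIdeal).comap (algebraMap O K) = ⊥
    rw [(Ideal.eq_bot_or_top p.asIdeal).resolve_right p.2.ne_top,
      ← RingHom.ker_eq_comap_bot, RingHom.ker_eq_bot_iff_eq_zero]
    exact fun a ha => (map_eq_zero_iff _ (IsFractionRing.injective _ _)).1 ha
  ext z
  exact ⟨fun ⟨p, hp⟩ => hp ▸ h p, fun hz => ⟨⟨⊥, Ideal.isPrime_bot⟩, (h _).trans hz.symm⟩⟩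

/-- A lift of the generic point defined on a ring with values in `O_{X,x}` gives an `X`-morphism
`Spec O_{X,x} ⟶ Y`. -/
theorem exists_extension_hom {V : Y.Opens} (hV : IsAffineOpen V) {W : X.Opens} (hW : IsAffineOpen W)
    (hxW : x ∈ W) (hVW : V ≤ q ⁻¹ᵁ W) (gY : Spec (CommRingCat.of K) ⟶ Y) (hgY : gY ≫ q = genHom x)
    (ψ : Γ(Y, V) ⟶ CommRingCat.of K) (hψ : gY = Spec.map ψ ≫ hV.fromSpec)
    (hrange : ∀ b, ψ b ∈ (algebraMap O K).range) :
    ∃ s : Spec (X.presheaf.stalk x) ⟶ Y, s ≫ q = X.fromSpecStalk x ∧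
      Spec.map (CommRingCat.ofHom (algebraMap O K)) ≫ s = gY ∧ Set.range s ⊆ (V : Set Y) := by
  choose f hf using hrange
  have hinj := IsFractionRing.injective O K
  let φ : Γ(Y, V) →+* O :=
    { toFun := f
      map_one' := hinj (by rw [hf, map_one, map_one])
      map_mul' := fun a b => hinj (by rw [hf, map_mul, map_mul, hf, hf])
      map_zero' := hinj (by rw [hf, map_zero, map_zero])
      map_add' := fun a b => hinj (by rw [hf, map_add, map_add, hf, hf]) }
  have hφ : CommRingCat.ofHom φ ≫ CommRingCat.ofHom (algebraMap O K) = ψ := by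
    ext b; exact hf b
  let s : Spec (X.presheaf.stalk x) ⟶ Y := Spec.map (CommRingCat.ofHom φ) ≫ hV.fromSpec
  have hsV : Set.range s ⊆ (V : Set Y) := by
    rintro _ ⟨p, rfl⟩
    exact hV.range_fromSpec.le ⟨_, rfl⟩
  have hgen : Spec.map (CommRingCat.ofHom (algebraMap O K)) ≫ s = gY := by
    rw [hψ, ← hφ, Spec.map_comp, Category.assoc]
    rfl
  refine ⟨s, hom_ext_affine (R := O) (L := K) hW (algebraMap O K) hinj (s ≫ q) (X.fromSpecStalk x) ?_ ?_ ?_, hgen, hsV⟩
  · rintro _ ⟨p, rfl⟩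
    exact hVW (hsV ⟨p, rfl⟩)
  · exact range_subset_of_closedPoint_mem (R := O) _ W (by rw [Scheme.fromSpecStalk_closedPoint]; exact hxW)
  · rw [← Category.assoc, hgen, hgY]

theorem exists_fun_on_dvr {S : Type u} [CommRing S] [IsDomain S] (j : O →+* S) [IsLocalHom j] [IsLocalRing S] :
    (Spec.map (CommRingCat.ofHom j) ≫ X.fromSpecStalk x) (closedPoint S) = x := by
  show X.fromSpecStalk x (PrimeSpectrum.comap j (closedPoint S)) = x
  rw [IsLocalRing.comap_closedPoint, Scheme.fromSpecStalk_closedPoint]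

theorem stalk_not_isField (h : genPt x ≠ x) : ¬ IsField O := fun hf => h (by
  have : (⟨⊥, Ideal.isPrime_bot⟩ : PrimeSpectrum O) = closedPoint O :=
    PrimeSpectrum.ext (IsLocalRing.isField_iff_maximalIdeal_eq.1 hf).symm
  show X.fromSpecStalk x _ = x
  rw [this]
  exact Scheme.fromSpecStalk_closedPoint)

/-- The discrete valuation rings test of the valuative criterion. -/
def DvrTest (U : X.Opens) (h : (U : Scheme.{u}) ⟶ Y) (x : X) (y₀ : Y) : Prop :=
  ∀ (R : Type u) [CommRing R] [IsDomain R] [IsDiscreteValuationRing R]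
    (u : Spec (CommRingCat.of R) ⟶ X), u (IsLocalRing.closedPoint R) = x →
    ∀ ub : Spec (CommRingCat.of (FractionRing R)) ⟶ (U : Scheme.{u}),
      ub ≫ U.ι = Spec.map (CommRingCat.ofHom (algebraMap R (FractionRing R))) ≫ u →
      ∃ h₁ : Spec (CommRingCat.of R) ⟶ Y, h₁ ≫ q = u ∧ h₁ (IsLocalRing.closedPoint R) = y₀ ∧
        Spec.map (CommRingCat.ofHom (algebraMap R (FractionRing R))) ≫ h₁ = ub ≫ h

theorem mem_of_test [IsNoetherianRing O] {U : X.Opens} {h : (U : Scheme.{u}) ⟶ Y} {y₀ : Y}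
    (htest : DvrTest q U h x y₀) {V : Y.Opens} (hy₀ : y₀ ∈ V) (z : (U : Scheme.{u})) (hz : z.1 ⤳ x)
    (hzx : z.1 ≠ x) : h z ∈ V := by
  obtain ⟨p, hp⟩ : z.1 ∈ Set.range (X.fromSpecStalk x) := by rw [Scheme.range_fromSpecStalk]; exact hz
  let R := X.presheaf.stalk x
  have : p.asIdeal.IsPrime := p.2
  let D := R ⧸ p.asIdeal
  have : Nontrivial D := Ideal.Quotient.nontrivial_iff.2 p.2.ne_top
  have : IsDomain D := Ideal.Quotient.isDomain p.asIdeal
  have : IsLocalRing D := IsLocalRing.of_surjective' (Ideal.Quotient.mk p.asIdeal) Ideal.Quotient.mk_surjective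
  have hD : ¬ IsField D := fun hf => hzx (by
    have hpm : p.asIdeal.IsMaximal := Ideal.Quotient.maximal_of_isField _ hf
    have : p = closedPoint R := PrimeSpectrum.ext (IsLocalRing.eq_maximalIdeal hpm)
    rw [← hp, this]
    exact Scheme.fromSpecStalk_closedPoint)
  obtain ⟨Vv, hVv, hle, hlt⟩ := E4O.exists_dvr_dominating (R := D) hD (FractionRing D) (FractionRing D)
    ⟨∅, Subsingleton.elim _ _⟩
  let j : R →+* Vv := ((algebraMap D (FractionRing D)).comp (Ideal.Quotient.mk p.asIdeal)).codRestrict _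
    fun a => hle _
  have hjloc : IsLocalHom j := ⟨fun a ha => by
    by_contra hna
    have h1 : Ideal.Quotient.mk p.asIdeal a ∈ maximalIdeal D := by
      rw [mem_maximalIdeal, mem_nonunits_iff]
      have hloc : IsLocalHom (Ideal.Quotient.mk p.asIdeal) :=
        Function.Surjective.isLocalHom _ Ideal.Quotient.mk_surjective
      exact fun hu => hna (hloc.map_nonunit a hu)
    exact ((Vv.valuation_eq_one_iff (j a)).1 ha).not_lt (hlt _ h1)⟩
  let k : R →+* FractionRing Vv := (algebraMap Vv _).comp j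
  have hker : RingHom.ker k = p.asIdeal := by
    ext a
    rw [RingHom.mem_ker]
    show algebraMap Vv (FractionRing Vv) (j a) = 0 ↔ _
    rw [map_eq_zero_iff _ (IsFractionRing.injective _ _), Subtype.ext_iff]
    show algebraMap D (FractionRing D) (Ideal.Quotient.mk _ a) = 0 ↔ _
    rw [map_eq_zero_iff _ (IsFractionRing.injective _ _), Ideal.Quotient.eq_zero_iff_mem]
  let u : Spec (CommRingCat.of Vv) ⟶ X := Spec.map (CommRingCat.ofHom j) ≫ X.fromSpecStalk x
  let g : Spec (CommRingCat.of (FractionRing Vv)) ⟶ X :=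
    Spec.map (CommRingCat.ofHom (algebraMap Vv (FractionRing Vv))) ≫ u
  have hg : ∀ P, g P = z.1 := fun P => by
    rw [← hp]
    show X.fromSpecStalk x (PrimeSpectrum.comap j (PrimeSpectrum.comap (algebraMap Vv _) P)) = _
    congr 1
    apply PrimeSpectrum.ext
    refine Eq.trans ?_ hker
    show ((P.asIdeal).comap (algebraMap Vv _)).comap j = _
    rw [(Ideal.eq_bot_or_top P.asIdeal).resolve_right P.2.ne_top]
    rfl
  obtain ⟨h₁, -, hh₁, hgen⟩ := htest Vv u (exists_fun_on_dvr j) (IsOpenImmersion.lift U.ι g (by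
    rintro _ ⟨P, rfl⟩; rw [Scheme.Opens.range_ι, hg]; exact z.2)) (IsOpenImmersion.lift_fac _ _ _)
  let P0 : Spec (CommRingCat.of (FractionRing Vv)) := ⟨⊥, Ideal.isPrime_bot⟩
  have h2 := congrArg (fun (m : Spec (CommRingCat.of (FractionRing Vv)) ⟶ Y) => m P0) hgen
  have h3 : (IsOpenImmersion.lift U.ι g (by
      rintro _ ⟨P, rfl⟩; rw [Scheme.Opens.range_ι, hg]; exact z.2)) P0 = z := by
    apply Subtype.ext
    refine Eq.trans ?_ (hg P0)
    exact congrArg (fun (m : Spec (CommRingCat.of (FractionRing Vv)) ⟶ X) => m P0) (IsOpenImmersion.lift_fac U.ι g _)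
  simp only [Scheme.Hom.comp_apply, h3] at h2
  rw [← h2]
  exact range_subset_of_closedPoint_mem h₁ V (hh₁ ▸ hy₀) ⟨_, rfl⟩

theorem exists_stalk_hom_of_test [IsNoetherianRing O] [IsIntegrallyClosed O] {U : X.Opens}
    {h : (U : Scheme.{u}) ⟶ Y} (hh : h ≫ q = U.ι) {y₀ : Y} (htest : DvrTest q U h x y₀)
    (gU : Spec (CommRingCat.of K) ⟶ (U : Scheme.{u})) (hgU : gU ≫ U.ι = genHom x) (hne : genPt x ≠ x)
    {V : Y.Opens} (hV : IsAffineOpen V) (hy₀ : y₀ ∈ V) {W : X.Opens} (hW : IsAffineOpen W) (hxW : x ∈ W)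
    (hVW : V ≤ q ⁻¹ᵁ W) :
    ∃ s : Spec (X.presheaf.stalk x) ⟶ Y, s ≫ q = X.fromSpecStalk x ∧
      Spec.map (CommRingCat.ofHom (algebraMap O K)) ≫ s = gU ≫ h ∧ s (closedPoint O) = y₀ := by
  have hgη : ∀ P, (gU P).1 = genPt x := fun P => by
    have : genHom x P ∈ Set.range (genHom x) := ⟨P, rfl⟩
    rw [range_genHom] at this
    rw [← this]
    exact congrArg (fun (m : Spec (CommRingCat.of K) ⟶ X) => m P) hgU
  have hgV : Set.range (gU ≫ h) ⊆ (V : Set Y) := by
    rintro _ ⟨P, rfl⟩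
    exact mem_of_test q htest hy₀ (gU P) (by rw [hgη]; exact genPt_specializes x) (by rw [hgη]; exact hne)
  obtain ⟨ψ, hψ⟩ := exists_specMap hV (gU ≫ h) hgV
  have key : ∀ (Vv : ValuationSubring K) [IsDiscreteValuationRing Vv] (hle : ∀ a, algebraMap O K a ∈ Vv)
      (_ : ∀ a ∈ maximalIdeal O, Vv.valuation (algebraMap O K a) < 1),
      (∀ b, ψ b ∈ Vv) ∧ ∃ (h₁ : Spec (CommRingCat.of Vv) ⟶ Y) (φ : Γ(Y, V) ⟶ CommRingCat.of Vv),
        h₁ (closedPoint Vv) = y₀ ∧ h₁ = Spec.map φ ≫ hV.fromSpec ∧ (∀ b, ((φ b : Vv) : K) = ψ b) := by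
    intro Vv _ hle hlt
    let j : O →+* Vv := (algebraMap O K).codRestrict _ hle
    have hjloc : IsLocalHom j := ⟨fun a ha => by
      by_contra hna
      exact ((Vv.valuation_eq_one_iff (j a)).1 ha).not_lt (hlt a hna)⟩
    let e : K →+* FractionRing Vv := (FractionRing.algEquiv Vv K).symm.toAlgHom.toRingHom
    have he : ∀ v : Vv, e (v : K) = algebraMap Vv (FractionRing Vv) v := fun v =>
      (FractionRing.algEquiv Vv K).symm.commutes v
    let u : Spec (CommRingCat.of Vv) ⟶ X := Spec.map (CommRingCat.ofHom j) ≫ X.fromSpecStalk x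
    obtain ⟨h₁, -, hh₁, hgen⟩ := htest Vv u (exists_fun_on_dvr j) (Spec.map (CommRingCat.ofHom e) ≫ gU) (by
      rw [Category.assoc, hgU]
      show Spec.map _ ≫ Spec.map _ ≫ X.fromSpecStalk x = Spec.map _ ≫ Spec.map _ ≫ X.fromSpecStalk x
      rw [← Spec.map_comp_assoc, ← Spec.map_comp_assoc]
      congr 2
      ext a
      exact he (j a))
    obtain ⟨φ, rfl⟩ := exists_specMap hV h₁ (range_subset_of_closedPoint_mem h₁ V (hh₁ ▸ hy₀))
    rw [Category.assoc, hψ, ← Spec.map_comp_assoc, ← Spec.map_comp_assoc] at hgen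
    have hφ := specMap_fromSpec_injective hV hgen
    have hb : ∀ b, ((φ b : Vv) : K) = ψ b := fun b => e.injective (by
      rw [he]; exact ConcreteCategory.congr_hom hφ b)
    exact ⟨fun b => hb b ▸ (φ b : Vv).2, _, φ, hh₁, rfl, hb⟩
  have hrange : ∀ b, ψ b ∈ (algebraMap O K).range := fun b => by
    by_contra hb
    obtain ⟨Vv, hVv, hle, hlt, hnot⟩ := exists_dvr_notMem (stalk_not_isField hne) K (ψ b) hb
    exact hnot ((key Vv hle hlt).1 b)
  obtain ⟨s, hs, hsgen, hsV⟩ := exists_extension_hom q hV hW hxW hVW (gU ≫ h) (by rw [Category.assoc, hh, hgU]) ψ hψ hrange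
  refine ⟨s, hs, hsgen, ?_⟩
  obtain ⟨Vv, hVv, hle, hlt⟩ := E4O.exists_dvr_dominating (R := O) (stalk_not_isField hne) K K ⟨∅, Subsingleton.elim _ _⟩
  obtain ⟨-, h₁, φ, hh₁, hh₁eq, hφ⟩ := key Vv hle hlt
  let j : O →+* Vv := (algebraMap O K).codRestrict _ hle
  have hjloc : IsLocalHom j := ⟨fun a ha => by
    by_contra hna
    exact ((Vv.valuation_eq_one_iff (j a)).1 ha).not_lt (hlt a hna)⟩
  have heq : Spec.map (CommRingCat.ofHom j) ≫ s = h₁ := by
    refine hom_ext_affine hV Vv.subtype Subtype.val_injective _ _ ?_ ?_ ?_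
    · rintro _ ⟨P, rfl⟩; exact hsV ⟨_, rfl⟩
    · exact range_subset_of_closedPoint_mem h₁ V (hh₁ ▸ hy₀)
    · rw [← Spec.map_comp_assoc, show CommRingCat.ofHom j ≫ CommRingCat.ofHom Vv.subtype =
        CommRingCat.ofHom (algebraMap O K) from rfl, hsgen, hψ, hh₁eq, ← Spec.map_comp_assoc]
      congr 2
      ext b
      exact (hφ b).symm
  rw [← hh₁, ← heq]
  show s (closedPoint O) = s (PrimeSpectrum.comap j (closedPoint Vv))
  congr 1
  exact (IsLocalRing.comap_closedPoint j).symm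

end Ext

end Groth.Agent.An92.Rat
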