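import Groth.Agent.An92.Rat.SectionExt

/-!
Glueing an extension of a section at a point.
-/

set_option autoImplicit false
universe u

open CategoryTheory AlgebraicGeometry TopologicalSpace IsLocalRing Topology

namespace Groth.Agent.An92.Rat

variable {X Y : Scheme.{u}}

/-- The generic point of `Spec O_{X,x}`. -/
noncomputable abbrev genStalk (x : X) [IsDomain (X.presheaf.stalk x)] :
    Spec (CommRingCat.of (FractionRing (X.presheaf.stalk x))) ⟶ Spec (X.presheaf.stalk x) :=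
  Spec.map (CommRingCat.ofHom (algebraMap (X.presheaf.stalk x : Type u) (FractionRing (X.presheaf.stalk x))))

theorem exists_dense_nhd [IsLocallyNoetherian X] (x : X) [IsDomain (X.presheaf.stalk x)] :
    ∃ W : X.Opens, IsAffineOpen W ∧ x ∈ W ∧ IsIntegral (W : Scheme.{u}) ∧ ∀ z ∈ W, genPt x ⤳ z := by
  obtain ⟨W, hW, hxW, hint⟩ := exists_integral_nhd x
  refine ⟨W, hW, hxW, hint, fun z hz => ?_⟩
  let g : ↥(W : Scheme.{u}) := genericPoint ↥(W : Scheme.{u})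
  have hgx : g.1 ⤳ x := (genericPoint_specializes (α := ↥(W : Scheme.{u})) ⟨x, hxW⟩).map W.ι.continuous
  exact (genPt_specializes_of_specializes x hgx).trans
    ((genericPoint_specializes (α := ↥(W : Scheme.{u})) ⟨z, hz⟩).map W.ι.continuous)

theorem hom_ext_of_genHom {Z : Scheme.{u}} (sZ : Z ⟶ X) [IsSeparated sZ] {x : X}
    [IsDomain (X.presheaf.stalk x)] {W : X.Opens} (hint : IsIntegral (W : Scheme.{u}))
    (hgen : ∀ z ∈ W, genPt x ⤳ z) {T : X.Opens} (hT : T ≤ W) (a b : (T : Scheme.{u}) ⟶ Z)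
    (hab : a ≫ sZ = b ≫ sZ) (j : Spec (CommRingCat.of (FractionRing (X.presheaf.stalk x))) ⟶ (T : Scheme.{u}))
    (hj : j ≫ T.ι = genHom x) (h : j ≫ a = j ≫ b) : a = b := by
  have : IsReduced (T : Scheme.{u}) := isReduced_of_isOpenImmersion (X.homOfLE hT)
  have : IsDominant j := by
    refine ⟨fun t => ?_⟩
    refine closure_mono (s := {j ⟨⊥, Ideal.isPrime_bot⟩}) (by rintro _ rfl; exact ⟨_, rfl⟩) ?_
    rw [← specializes_iff_mem_closure, ← T.ι.isOpenEmbedding.isInducing.specializes_iff]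
    have h1 : T.ι (j ⟨⊥, Ideal.isPrime_bot⟩) = genHom x ⟨⊥, Ideal.isPrime_bot⟩ :=
      congrArg (fun (m : Spec (CommRingCat.of (FractionRing (X.presheaf.stalk x))) ⟶ X) => m ⟨⊥, Ideal.isPrime_bot⟩) hj
    have h2 : genHom x ⟨⊥, Ideal.isPrime_bot⟩ ∈ Set.range (genHom x) := ⟨_, rfl⟩
    rw [range_genHom, Set.mem_singleton_iff] at h2
    rw [h1, h2]
    exact hgen _ (hT t.2)
  exact ext_of_isDominant_of_isSeparated sZ hab j h

theorem exists_extension_of_stalk_hom [IsLocallyNoetherian X] (q : Y ⟶ X) [LocallyOfFiniteType q]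
    {x : X} [IsDomain (X.presheaf.stalk x)] {U : X.Opens} (hU : Dense (U : Set X))
    (h : (U : Scheme.{u}) ⟶ Y) (hh : h ≫ q = U.ι) (hxU : x ∉ U)
    (s : Spec (X.presheaf.stalk x) ⟶ Y) (hs : s ≫ q = X.fromSpecStalk x)
    (hsgen : ∀ gU : Spec (CommRingCat.of (FractionRing (X.presheaf.stalk x))) ⟶ (U : Scheme.{u}),
      gU ≫ U.ι = genHom x →
      genStalk x ≫ s = gU ≫ h)
    {V : Y.Opens} (hV : IsAffineOpen V) (hsV : s (closedPoint (X.presheaf.stalk x)) ∈ V)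
    (hN : IsSeparated q ∨ ∀ᶠ z in 𝓝 x, ∀ hz : z ∈ U, h ⟨z, hz⟩ ∈ V) :
    ∃ (U' : X.Opens) (hUU' : U ≤ U') (hxU' : x ∈ U') (h' : (U' : Scheme.{u}) ⟶ Y),
      h' ≫ q = U'.ι ∧ X.homOfLE hUU' ≫ h' = h ∧ h' ⟨x, hxU'⟩ = s (closedPoint (X.presheaf.stalk x)) := by
  obtain ⟨W0, -, hxW0, hint, hgen⟩ := exists_dense_nhd x
  obtain ⟨W1, hxW1, f1, hf1, hf1q⟩ := spread_out_of_isGermInjective' (𝟙 X) q s (by rw [hs, Category.comp_id])
  rw [Category.comp_id] at hf1q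
  have hfx : f1 ⟨x, hxW1⟩ = s (closedPoint (X.presheaf.stalk x)) := by
    rw [hf1]
    show f1 _ = f1 (W1.fromSpecStalkOfMem x hxW1 (closedPoint (X.presheaf.stalk x)))
    congr 1
    apply W1.ι.isOpenEmbedding.injective
    show x = (W1.fromSpecStalkOfMem x hxW1 ≫ W1.ι) _
    rw [Scheme.Opens.fromSpecStalkOfMem_ι, Scheme.fromSpecStalk_closedPoint]
  let W1V : X.Opens := W1.ι ''ᵁ (f1 ⁻¹ᵁ V)
  have hxW1V : x ∈ W1V := ⟨⟨x, hxW1⟩, by show f1 ⟨x, hxW1⟩ ∈ V; rw [hfx]; exact hsV, rfl⟩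
  obtain ⟨N, hxN, hN'⟩ : ∃ N : X.Opens, x ∈ N ∧ (IsSeparated q ∨ ∀ z ∈ N, ∀ hz : z ∈ U, h ⟨z, hz⟩ ∈ V) := by
    rcases hN with hN | hN
    · exact ⟨⊤, trivial, Or.inl hN⟩
    · obtain ⟨t, ht, htopen, hxt⟩ := eventually_nhds_iff.1 hN
      exact ⟨⟨t, htopen⟩, hxt, Or.inr ht⟩
  let W2 : X.Opens := W1V ⊓ W0 ⊓ N
  have hW21 : W2 ≤ W1 := (inf_le_left.trans inf_le_left).trans fun z hz => by
    obtain ⟨⟨z, hz1⟩, -, rfl⟩ := hz
    exact hz1
  have hxW2 : x ∈ W2 := ⟨⟨hxW1V, hxW0⟩, hxN⟩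
  let T : X.Opens := U ⊓ W2
  have hTW0 : T ≤ W0 := inf_le_right.trans (inf_le_left.trans inf_le_right)
  let a : (T : Scheme.{u}) ⟶ Y := X.homOfLE (inf_le_left : T ≤ U) ≫ h
  let b : (T : Scheme.{u}) ⟶ Y := X.homOfLE (inf_le_right.trans hW21 : T ≤ W1) ≫ f1
  have haq : a ≫ q = T.ι := by rw [Category.assoc, hh, Scheme.homOfLE_ι]
  have hbq : b ≫ q = T.ι := by rw [Category.assoc, hf1q, Scheme.homOfLE_ι]
  have hηT : genPt x ∈ T := ⟨genPt_mem hU x, (genPt_specializes x).mem_open W2.2 hxW2⟩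
  let jT := IsOpenImmersion.lift T.ι (genHom x) (by
    rw [range_genHom, Scheme.Opens.range_ι, Set.singleton_subset_iff]; exact hηT)
  have hjT : jT ≫ T.ι = genHom x := IsOpenImmersion.lift_fac _ _ _
  have hab0 : jT ≫ a = jT ≫ b := by
    have h1 : jT ≫ a = genStalk x ≫ s := by
      rw [hsgen (jT ≫ X.homOfLE (inf_le_left : T ≤ U)) (by rw [Category.assoc, Scheme.homOfLE_ι, hjT]), Category.assoc]
    rw [h1, hf1, ← Category.assoc]
    show _ = jT ≫ X.homOfLE _ ≫ f1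
    rw [← Category.assoc jT]
    congr 1
    rw [← cancel_mono W1.ι]
    simp only [Category.assoc, Scheme.Opens.fromSpecStalkOfMem_ι, Scheme.homOfLE_ι, hjT]
    rfl
  have hab : a = b := by
    rcases hN' with hsep | hN'
    · exact hom_ext_of_genHom q hint hgen hTW0 a b (haq.trans hbq.symm) jT hjT hab0
    · have : IsAffine (V : Scheme.{u}) := hV
      have : IsSeparated (V.ι ≫ q) := inferInstance
      have hra : Set.range a ⊆ Set.range V.ι := by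
        rintro _ ⟨t, rfl⟩
        rw [Scheme.Opens.range_ι, show a t = h (X.homOfLE (inf_le_left : T ≤ U) t) from Scheme.Hom.comp_apply _ _ _]
        have : (X.homOfLE (inf_le_left : T ≤ U) t) = ⟨t.1, t.2.1⟩ := Subtype.ext (Scheme.homOfLE_apply _ t)
        rw [this]
        exact hN' _ t.2.2.2 _
      have hrb : Set.range b ⊆ Set.range V.ι := by
        rintro _ ⟨t, rfl⟩
        rw [Scheme.Opens.range_ι, show b t = f1 (X.homOfLE (inf_le_right.trans hW21 : T ≤ W1) t) from Scheme.Hom.comp_apply _ _ _]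
        obtain ⟨t', ht', htt⟩ := t.2.2.1.1
        have : (X.homOfLE (inf_le_right.trans hW21 : T ≤ W1) t) = t' :=
          Subtype.ext ((Scheme.homOfLE_apply _ t).trans htt.symm)
        rw [this]
        exact ht'
      have key := hom_ext_of_genHom (V.ι ≫ q) hint hgen hTW0 (IsOpenImmersion.lift V.ι a hra)
        (IsOpenImmersion.lift V.ι b hrb) (by
          rw [IsOpenImmersion.lift_fac_assoc, IsOpenImmersion.lift_fac_assoc]; exact haq.trans hbq.symm) jT hjT (by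
          rw [← cancel_mono V.ι, Category.assoc, Category.assoc, IsOpenImmersion.lift_fac, IsOpenImmersion.lift_fac]
          exact hab0)
      rw [← IsOpenImmersion.lift_fac V.ι a hra, key, IsOpenImmersion.lift_fac]
  let Wi : ULift.{u} Bool → X.Opens := fun i => if i.down then U else W2
  let gi : ∀ i, (Wi i : Scheme.{u}) ⟶ Y := fun i => match i with
    | ⟨true⟩ => h
    | ⟨false⟩ => X.homOfLE hW21 ≫ f1
  have key : ∀ (S : Scheme.{u}) (aU : S ⟶ (U : Scheme.{u})) (bW : S ⟶ (W2 : Scheme.{u})),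
      aU ≫ U.ι = bW ≫ W2.ι → aU ≫ h = bW ≫ X.homOfLE hW21 ≫ f1 := by
    intro S aU bW e
    have hr : Set.range (aU ≫ U.ι) ⊆ Set.range T.ι := by
      rintro _ ⟨t, rfl⟩
      rw [Scheme.Opens.range_ι]
      exact ⟨(aU t).2, by rw [e]; exact (bW t).2⟩
    let l := IsOpenImmersion.lift T.ι (aU ≫ U.ι) hr
    have hl1 : l ≫ X.homOfLE (inf_le_left : T ≤ U) = aU := by
      rw [← cancel_mono U.ι, Category.assoc, Scheme.homOfLE_ι, IsOpenImmersion.lift_fac]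
    have hl2 : l ≫ X.homOfLE (inf_le_right : T ≤ W2) = bW := by
      rw [← cancel_mono W2.ι, Category.assoc, Scheme.homOfLE_ι, IsOpenImmersion.lift_fac, e]
    rw [← hl1, ← hl2, Category.assoc, Category.assoc, ← Category.assoc (X.homOfLE (inf_le_right : T ≤ W2)),
      Scheme.homOfLE_homOfLE]
    exact congrArg (l ≫ ·) hab
  have hsame : ∀ (S : Scheme.{u}) (Q : X.Opens) (a₁ b₁ : S ⟶ (Q : Scheme.{u})), a₁ ≫ Q.ι = b₁ ≫ Q.ι → a₁ = b₁ :=
    fun S Q a₁ b₁ e => (cancel_mono Q.ι).1 e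
  obtain ⟨g', hg'⟩ := EGA73.exists_glue_opens Wi gi (by
    rintro ⟨i⟩ ⟨j⟩ S aS bS e -
    cases i <;> cases j
    · rw [hsame S W2 aS bS e]
    · exact (key S bS aS e.symm).symm
    · exact key S aS bS e
    · rw [hsame S U aS bS e])
  refine ⟨⨆ i, Wi i, le_iSup Wi ⟨true⟩, le_iSup Wi ⟨false⟩ hxW2, g', ?_, hg' ⟨true⟩, ?_⟩
  · have hcover : ∀ i, X.homOfLE (le_iSup Wi i) ≫ g' ≫ q = X.homOfLE (le_iSup Wi i) ≫ (⨆ i, Wi i : X.Opens).ι := by
      rintro ⟨i⟩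
      rw [← Category.assoc, hg', Scheme.homOfLE_ι]
      cases i
      · show (X.homOfLE hW21 ≫ f1) ≫ q = _
        rw [Category.assoc, hf1q, Scheme.homOfLE_ι]; rfl
      · exact hh
    exact Scheme.Cover.hom_ext (Scheme.Opens.iSupOpenCover Wi) _ _ hcover
  · have h1 := congrArg (fun (m : (Wi ⟨false⟩ : Scheme.{u}) ⟶ Y) => m ⟨x, hxW2⟩) (hg' ⟨false⟩)
    change g' (X.homOfLE (le_iSup Wi ⟨false⟩) ⟨x, hxW2⟩) = gi ⟨false⟩ ⟨x, hxW2⟩ at h1
    have h2 : X.homOfLE (le_iSup Wi ⟨false⟩) ⟨x, hxW2⟩ = ⟨x, le_iSup Wi ⟨false⟩ hxW2⟩ :=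
      Subtype.ext (Scheme.homOfLE_apply _ _)
    rw [h2] at h1
    rw [h1]
    show f1 (X.homOfLE hW21 ⟨x, hxW2⟩) = _
    rw [show X.homOfLE hW21 ⟨x, hxW2⟩ = ⟨x, hxW1⟩ from Subtype.ext (Scheme.homOfLE_apply _ _), hfx]

end Groth.Agent.An92.Rat
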