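import Groth.Agent.An92.Rat.SectionExt

/-!
The valuative criterion for quasi-finite separated morphisms.
-/

set_option autoImplicit false
universe u

open CategoryTheory AlgebraicGeometry TopologicalSpace IsLocalRing Topology

namespace Groth.Agent.An92.Rat

variable {X Y : Scheme.{u}}

set_option maxHeartbeats 1000000 in
theorem exists_stalk_hom_of_dvr [IsLocallyNoetherian X] (q : Y ⟶ X) [LocallyOfFiniteType q]
    [LocallyQuasiFinite q] {U : X.Opens} (hU : Dense (U : Set X)) (h : (U : Scheme.{u}) ⟶ Y) (hh : h ≫ q = U.ι)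
    {R : Type u} [CommRing R] [IsDomain R] [IsDiscreteValuationRing R] (u : Spec (CommRingCat.of R) ⟶ X)
    [IsDomain (X.presheaf.stalk (u (closedPoint R)))] [IsIntegrallyClosed (X.presheaf.stalk (u (closedPoint R)))]
    (ub : Spec (CommRingCat.of (FractionRing R)) ⟶ (U : Scheme.{u}))
    (hub : ub ≫ U.ι = Spec.map (CommRingCat.ofHom (algebraMap R (FractionRing R))) ≫ u)
    (h₁ : Spec (CommRingCat.of R) ⟶ Y) (hh₁ : h₁ ≫ q = u)
    (hgen : Spec.map (CommRingCat.ofHom (algebraMap R (FractionRing R))) ≫ h₁ = ub ≫ h) :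
    ∃ (V : Y.Opens) (_ : IsAffineOpen V) (s : Spec (X.presheaf.stalk (u (closedPoint R))) ⟶ Y),
      s ≫ q = X.fromSpecStalk _ ∧ s (closedPoint (X.presheaf.stalk (u (closedPoint R)))) ∈ V ∧
      ∀ gU : Spec (CommRingCat.of (FractionRing (X.presheaf.stalk (u (closedPoint R))))) ⟶ (U : Scheme.{u}),
        gU ≫ U.ι = genHom (u (closedPoint R)) →
        Spec.map (CommRingCat.ofHom (algebraMap (X.presheaf.stalk (u (closedPoint R)) : Type u)
          (FractionRing (X.presheaf.stalk (u (closedPoint R)))))) ≫ s = gU ≫ h := by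
  let x := u (closedPoint R)
  let O : Type u := X.presheaf.stalk x
  let K := FractionRing O
  let y₀ := h₁ (closedPoint R)
  have hqy : q y₀ = x := congrArg (fun (m : Spec (CommRingCat.of R) ⟶ X) => m (closedPoint R)) hh₁
  obtain ⟨W, hW, hxW, -⟩ := exists_isAffineOpen_mem_and_subset (U := (⊤ : X.Opens)) (Opens.mem_top x)
  obtain ⟨V, hV, hyV, hVW⟩ := exists_isAffineOpen_mem_and_subset (U := q ⁻¹ᵁ W) (x := y₀)
    (show q y₀ ∈ W by rw [hqy]; exact hxW)
  obtain ⟨φ, hφ⟩ := exists_specMap hV h₁ (range_subset_of_closedPoint_mem h₁ V hyV)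
  have hjt : Spec.map (Scheme.stalkClosedPointTo u) ≫ X.fromSpecStalk x = u :=
    Scheme.Spec_stalkClosedPointTo_fromSpecStalk u
  let j : O →+* R := (Scheme.stalkClosedPointTo u).hom
  let k : O →+* FractionRing R := (algebraMap R _).comp j
  let P : Ideal O := RingHom.ker k
  have hP : P.IsPrime := RingHom.ker_isPrime k
  let OP := Localization.AtPrime P
  let lP : OP →+* K := IsLocalization.lift (M := P.primeCompl) (g := algebraMap O K) fun c =>
    IsUnit.mk0 _ ((map_ne_zero_iff _ (IsFractionRing.injective O K)).2 fun h0 => c.2 (h0 ▸ zero_mem P))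
  let kR : OP →+* FractionRing R := IsLocalization.lift (M := P.primeCompl) (g := k) fun c => IsUnit.mk0 _ c.2
  let gP : Spec (CommRingCat.of OP) ⟶ X := Spec.map (CommRingCat.ofHom (algebraMap O OP)) ≫ X.fromSpecStalk x
  let P0 : Spec (CommRingCat.of (FractionRing R)) := ⟨⊥, Ideal.isPrime_bot⟩
  have hkgP : Spec.map (CommRingCat.ofHom kR) ≫ gP = ub ≫ U.ι := by
    rw [hub, ← hjt]
    simp only [gP, ← Category.assoc, ← Spec.map_comp]
    congr 2
    ext a
    exact IsLocalization.lift_eq _ a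
  have hcl : gP (closedPoint OP) = (ub P0).1 := by
    refine Eq.trans ?_ (congrArg (fun (m : Spec (CommRingCat.of (FractionRing R)) ⟶ X) => m P0) hkgP)
    show X.fromSpecStalk x _ = X.fromSpecStalk x _
    congr 1
    apply PrimeSpectrum.ext
    show (maximalIdeal OP).comap (algebraMap O OP) = ((⊥ : Ideal (FractionRing R)).comap kR).comap (algebraMap O OP)
    rw [show (maximalIdeal OP).comap (algebraMap O OP) = P from Localization.AtPrime.under_maximalIdeal,
      Ideal.comap_comap, IsLocalization.lift_comp]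
    rfl
  have hgPU : Set.range gP ⊆ (U : Set X) :=
    range_subset_of_closedPoint_mem gP U (by rw [hcl]; exact (ub P0).2)
  let gPU := IsOpenImmersion.lift U.ι gP (by rw [Scheme.Opens.range_ι]; exact hgPU)
  have hgPU' : gPU ≫ U.ι = gP := IsOpenImmersion.lift_fac _ _ _
  have hubP : Spec.map (CommRingCat.ofHom kR) ≫ gPU = ub := by
    rw [← cancel_mono U.ι, Category.assoc, hgPU', hkgP]
  have hzV : Set.range (gPU ≫ h) ⊆ (V : Set Y) := by
    refine range_subset_of_closedPoint_mem (gPU ≫ h) V ?_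
    have h2 : gPU (closedPoint OP) = ub P0 := by
      apply Subtype.ext
      exact (congrArg (fun (m : Spec (CommRingCat.of OP) ⟶ X) => m (closedPoint OP)) hgPU').trans hcl
    show h (gPU (closedPoint OP)) ∈ V
    rw [h2]
    have h3 : h (ub P0) = h₁ _ := (congrArg (fun (m : Spec (CommRingCat.of (FractionRing R)) ⟶ Y) => m P0) hgen).symm
    rw [h3]
    exact range_subset_of_closedPoint_mem h₁ V hyV ⟨_, rfl⟩
  obtain ⟨ψP, hψP⟩ := exists_specMap hV (gPU ≫ h) hzV
  let ψ : Γ(Y, V) ⟶ CommRingCat.of K := ψP ≫ CommRingCat.ofHom lP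
  have hlPgP : Spec.map (CommRingCat.ofHom lP) ≫ gP = genHom x := by
    rw [← Category.assoc, ← Spec.map_comp]
    congr 2
    ext a
    exact IsLocalization.lift_eq _ a
  let gY : Spec (CommRingCat.of K) ⟶ Y := Spec.map (CommRingCat.ofHom lP) ≫ gPU ≫ h
  have hgYq : gY ≫ q = genHom x := by
    rw [Category.assoc, Category.assoc, hh, hgPU', hlPgP]
  have hψ : gY = Spec.map ψ ≫ hV.fromSpec := by
    show _ ≫ gPU ≫ h = _
    rw [hψP, Spec.map_comp, Category.assoc]
  have hφP : φ ≫ CommRingCat.ofHom (algebraMap R (FractionRing R)) = ψP ≫ CommRingCat.ofHom kR := by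
    apply specMap_fromSpec_injective hV
    rw [Spec.map_comp, Spec.map_comp, Category.assoc, Category.assoc, ← hφ, ← hψP, hgen, ← Category.assoc, hubP]
  have hA : q.appLE W V hVW ≫ ψ = X.presheaf.germ W x hxW ≫ CommRingCat.ofHom (algebraMap O K) := by
    apply specMap_fromSpec_injective hW
    rw [Spec.map_comp, Category.assoc, IsAffineOpen.SpecMap_appLE_fromSpec q hW hV hVW,
      ← Category.assoc, ← hψ, hgYq]
    erw [Spec.map_comp, Category.assoc]
    show _ = _ ≫ (Spec.map _ ≫ hW.fromSpec)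
    rw [← IsAffineOpen.fromSpecStalk, IsAffineOpen.fromSpecStalk_eq_fromSpecStalk]
    rfl
  have hlPinj : Function.Injective lP := by
    refine IsLocalization.lift_injective_iff (M := P.primeCompl) _ |>.2 fun a b => ?_
    exact ⟨fun e => congrArg _ ((IsLocalization.injective OP P.primeCompl_le_nonZeroDivisors) e),
      fun e => congrArg _ (IsFractionRing.injective O K e)⟩
  have hint : ∀ b : Γ(Y, V), (q.appLE W V hVW).hom.IsIntegralElem b → ψ b ∈ (algebraMap O K).range := by
    rintro b ⟨p, hp, hpb⟩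
    have : IsIntegral O (ψ b) := by
      refine ⟨p.map (X.presheaf.germ W x hxW).hom, hp.map _, ?_⟩
      rw [Polynomial.eval₂_map]
      have h2 : (algebraMap O K).comp (X.presheaf.germ W x hxW).hom = ψ.hom.comp (q.appLE W V hVW).hom :=
        (congrArg (fun (m : Γ(X, W) ⟶ CommRingCat.of K) => m.hom) hA).symm
      rw [h2, ← Polynomial.hom_eval₂, hpb, map_zero]
    exact IsIntegrallyClosed.algebraMap_eq_of_integral this
  algebraize [(q.appLE W V hVW).hom]
  have : Algebra.FiniteType Γ(X, W) Γ(Y, V) := q.finiteType_appLE hW hV hVW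
  have : Algebra.QuasiFiniteAt Γ(X, W) (hV.primeIdealOf ⟨y₀, hyV⟩).asIdeal :=
    (q.quasiFiniteAt y₀).quasiFiniteAt hV hW hVW hyV
  obtain ⟨r, hrp, hr, hrb⟩ := Algebra.zariskisMainProperty_iff.1
    (Algebra.ZariskisMainProperty.of_finiteType (R := Γ(X, W)) (hV.primeIdealOf ⟨y₀, hyV⟩).asIdeal)
  obtain ⟨c, hc⟩ := hint r hr
  have hunit : IsUnit (φ r) := by
    by_contra hnu
    apply hrp
    have he : PrimeSpectrum.comap φ.hom (closedPoint R) = hV.primeIdealOf ⟨y₀, hyV⟩ := by
      apply hV.fromSpec.isOpenEmbedding.injective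
      refine Eq.trans ?_ (hV.fromSpec_primeIdealOf ⟨y₀, hyV⟩).symm
      exact (congrArg (fun (m : Spec (CommRingCat.of R) ⟶ Y) => m (closedPoint R)) hφ).symm
    rw [← he]
    exact hnu
  have hcR : j c = φ r := by
    apply IsFractionRing.injective R (FractionRing R)
    have h1 : ψP r = algebraMap O OP c := hlPinj (by rw [IsLocalization.lift_eq]; exact hc.symm)
    have h2 := ConcreteCategory.congr_hom hφP r
    change algebraMap R (FractionRing R) (φ r) = kR (ψP r) at h2
    rw [h2, h1, IsLocalization.lift_eq]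
    rfl
  have hcu : IsUnit c := by
    refine IsUnit.of_map j c ?_
    rw [hcR]; exact hunit
  have hrange : ∀ b, ψ b ∈ (algebraMap O K).range := fun b => by
    obtain ⟨m, hm⟩ := hrb b
    obtain ⟨d, hd⟩ := hint _ hm
    refine ⟨(↑(hcu.pow m).unit⁻¹ : O) * d, ?_⟩
    rw [map_mul, hd, map_mul, map_pow, ← hc, ← map_pow, ← mul_assoc, ← map_mul, IsUnit.val_inv_mul, map_one, one_mul]
  obtain ⟨s, hs, hsgen, hsV⟩ := exists_extension_hom q hV hW hxW hVW gY hgYq ψ hψ hrange
  refine ⟨V, hV, s, hs, hsV ⟨_, rfl⟩, fun gU hgU => hsgen.trans ?_⟩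
  have : gU = Spec.map (CommRingCat.ofHom lP) ≫ gPU := by
    rw [← cancel_mono U.ι, hgU, Category.assoc, hgPU', hlPgP]
  rw [this, Category.assoc]

end Groth.Agent.An92.Rat
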